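import Groth.Agent.Etrest.RDer1
import Mathlib.Algebra.Homology.DerivedCategory.Ext.EnoughInjectives
import Mathlib.Algebra.Homology.DerivedCategory.Ext.ExactSequences
import Mathlib.Algebra.Homology.DerivedCategory.Ext.Basic

/-!
# Depth and vanishing of `Ext`, abstractly

`L ⊣ R` with `L` preserving monomorphisms, `G` with `L G = 0`.
* `ext_push` : if `R^q R (N) = 0` for `1 ≤ q ≤ s` then `Ext^i(G, R N) = 0` for `i ≤ s + 1`.
* `ext_of_depth` : the conclusion `Ext^i(G, M) = 0`, `i < ρ`, from a depth condition on `M`.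
-/

set_option autoImplicit false
universe w v v' u u'

open CategoryTheory CategoryTheory.Limits

namespace Groth.Agent.Sga2lef.H91.Dep

open Groth.Agent.Etrest

variable {C : Type u} [Category.{v} C] [Abelian C] {D : Type u'} [Category.{v'} D] [Abelian D]
  [EnoughInjectives D] [HasExt.{w} C] {L : C ⥤ D} {R : D ⥤ C} (adj : L ⊣ R) [R.Additive]
  [L.PreservesMonomorphisms]

open Abelian

omit [Abelian D] [EnoughInjectives D] [R.Additive] in
include adj in
/-- `Ext^i(G, R I) = 0` for `I` injective and `L G = 0`. -/
theorem ext_push_injective {G : C} (hG : IsZero (L.obj G)) (I : D) [Injective I] (i : ℕ) :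
    Subsingleton (Ext.{w} G (R.obj I) i) := by
  have hI : Injective (R.obj I) := Injective.injective_of_adjoint adj I
  obtain _ | i := i
  · have h1 : Subsingleton (G ⟶ R.obj I) :=
      ((adj.homEquiv G I).symm.trans (Equiv.refl _)).subsingleton_congr.2 ⟨fun f g => hG.eq_of_src _ _⟩
    exact (Ext.homEquiv₀ (X := G) (Y := R.obj I)).subsingleton
  · exact subsingleton_of_forall_eq 0 fun e => Ext.eq_zero_of_injective e

include adj in
theorem ext_push {G : C} (hG : IsZero (L.obj G)) (s : ℕ) : ∀ (N : D)
    (_ : ∀ q, 1 ≤ q → q ≤ s → IsZero ((R.rightDerived q).obj N)) (i : ℕ) (_ : i ≤ s + 1),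
    Subsingleton (Ext.{w} G (R.obj N) i) := by
  have hR : PreservesFiniteLimits R :=
    have : PreservesLimitsOfSize.{0, 0} R := adj.rightAdjoint_preservesLimits
    PreservesLimitsOfSize.preservesFiniteLimits _
  induction s with
  | zero =>
    intro N _ i hi
    obtain rfl | rfl : i = 0 ∨ i = 1 := by omega
    · have h1 : Subsingleton (G ⟶ R.obj N) :=
        ((adj.homEquiv G N).symm.trans (Equiv.refl _)).subsingleton_congr.2
          ⟨fun f g => hG.eq_of_src _ _⟩
      exact (Ext.homEquiv₀ (X := G) (Y := R.obj N)).subsingleton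
    · refine subsingleton_of_forall_eq 0 fun x => ?_
      let ι : N ⟶ Injective.under N := Injective.ι N
      let S : ShortComplex C := ShortComplex.mk (R.map ι) (cokernel.π (R.map ι))
        (cokernel.condition _)
      have hS : S.ShortExact :=
        { exact := ShortComplex.exact_cokernel _
          mono_f := inferInstanceAs (Mono (R.map ι))
          epi_g := inferInstanceAs (Epi (cokernel.π _)) }
      have h1 := ext_push_injective adj hG (Injective.under N) 1
      obtain ⟨y, hy⟩ := Ext.covariant_sequence_exact₁ G hS x (h1.elim _ _) (zero_add 1)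
      -- the cokernel embeds into `R (I / N)`
      let T : ShortComplex D := ShortComplex.mk ι (cokernel.π ι) (cokernel.condition _)
      have hT : T.ShortExact :=
        { exact := ShortComplex.exact_cokernel _
          mono_f := inferInstanceAs (Mono ι)
          epi_g := inferInstanceAs (Epi (cokernel.π _)) }
      have hTR : (T.map R).Exact := hT.exact.map_of_mono_of_preservesKernel R hT.mono_f inferInstance
      let m : cokernel (R.map ι) ⟶ R.obj (cokernel ι) := cokernel.desc _ (R.map (cokernel.π ι)) (by
        rw [← Functor.map_comp, cokernel.condition, Functor.map_zero])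
      have hm : Mono m := hTR.mono_cokernelDesc
      have h2 : Subsingleton (G ⟶ R.obj (cokernel ι)) :=
        ((adj.homEquiv G _).symm.trans (Equiv.refl _)).subsingleton_congr.2
          ⟨fun f g => hG.eq_of_src _ _⟩
      have h3 : Subsingleton (G ⟶ cokernel (R.map ι)) :=
        ⟨fun f g => (cancel_mono m).1 (h2.elim _ _)⟩
      have h4 : Subsingleton (Ext.{w} G S.X₃ 0) :=
        (Ext.homEquiv₀ (X := G) (Y := cokernel (R.map ι))).subsingleton
      rw [← hy, h4.elim y 0, Ext.zero_comp]
  | succ s ih =>
    intro N hN i hi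
    by_cases hi2 : i ≤ s + 1
    · exact ih N (fun q h1 h2 => hN q h1 (by omega)) i hi2
    · obtain rfl : i = s + 2 := by omega
      refine subsingleton_of_forall_eq 0 fun x => ?_
      let ι : N ⟶ Injective.under N := Injective.ι N
      let T : ShortComplex D := ShortComplex.mk ι (cokernel.π ι) (cokernel.condition _)
      have hT : T.ShortExact :=
        { exact := ShortComplex.exact_cokernel _
          mono_f := inferInstanceAs (Mono ι)
          epi_g := inferInstanceAs (Epi (cokernel.π _)) }
      have hI : ∀ q, IsZero ((R.rightDerived (q + 1)).obj T.X₂) := fun q =>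
        R.isZero_rightDerived_obj_injective_succ q (Injective.under N)
      -- `R(I) ⟶ R(I / N)` is an epimorphism
      have h1 : Epi (R.map T.g) := by
        have hz : IsZero ((R.rightDerived 1).obj T.X₁) := hN 1 le_rfl (by omega)
        have he : Epi ((R.rightDerived 0).map T.g) :=
          (RDer1.exact₃ R hT 0).epi_f (hz.eq_of_tgt _ _)
        have hnat := R.rightDerivedZeroIsoSelf.hom.naturality T.g
        have h5 : Epi (R.rightDerivedZeroIsoSelf.hom.app T.X₂ ≫ R.map T.g) := by
          rw [← hnat]
          exact epi_comp _ _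
        exact epi_of_epi (R.rightDerivedZeroIsoSelf.hom.app T.X₂) _
      have hTR : (T.map R).ShortExact :=
        { exact := hT.exact.map_of_mono_of_preservesKernel R hT.mono_f inferInstance
          mono_f := inferInstanceAs (Mono (R.map ι))
          epi_g := h1 }
      have h2 := ext_push_injective adj hG (Injective.under N) (s + 2)
      obtain ⟨y, hy⟩ := Ext.covariant_sequence_exact₁ G hTR x (h2.elim _ _) (rfl : s + 1 + 1 = s + 2)
      have h3 : Subsingleton (Ext.{w} G (R.obj (cokernel ι)) (s + 1)) := by
        refine ih (cokernel ι) (fun q hq1 hq2 => ?_) (s + 1) le_rfl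
        obtain ⟨q, rfl⟩ : ∃ r, q = r + 1 := ⟨q - 1, by omega⟩
        exact RDer1.isZero_X₃ R hT (q + 1) (hI q) (hN (q + 1 + 1) (by omega) (by omega))
      have h4 : Subsingleton (Ext.{w} G (T.map R).X₃ (s + 1)) := h3
      rw [← hy, h4.elim y 0, Ext.zero_comp]
      rfl

/-- Depth and vanishing of `Ext`. -/
theorem ext_of_depth {G : C} (hG : IsZero (L.obj G)) (M : C) (ρ : ℕ)
    (h0 : 1 ≤ ρ → Mono (adj.unit.app M)) (h1 : 2 ≤ ρ → Epi (adj.unit.app M))
    (h2 : ∀ q, 1 ≤ q → q + 1 < ρ → IsZero ((R.rightDerived q).obj (L.obj M))) (i : ℕ) (hi : i < ρ) :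
    Subsingleton (Ext.{w} G M i) := by
  by_cases hρ : 2 ≤ ρ
  · have := h0 (by omega)
    have := h1 hρ
    have hiso : IsIso (adj.unit.app M) := isIso_of_mono_of_epi _
    have h3 : Subsingleton (Ext.{w} G (R.obj (L.obj M)) i) :=
      ext_push adj hG (ρ - 2) (L.obj M) (fun q hq1 hq2 => h2 q hq1 (by omega)) i (by omega)
    refine subsingleton_of_forall_eq 0 fun x => ?_
    have h4 : (x.comp (Ext.mk₀ (adj.unit.app M)) (add_zero i)).comp
        (Ext.mk₀ (inv (adj.unit.app M))) (add_zero i) = x := by
      rw [Ext.comp_assoc_of_third_deg_zero, Ext.mk₀_comp_mk₀, IsIso.hom_inv_id, Ext.comp_mk₀_id]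
    have h5 : x.comp (Ext.mk₀ (adj.unit.app M)) (add_zero i) = 0 := h3.elim _ _
    rw [← h4, h5, Ext.zero_comp]
  · obtain rfl : i = 0 := by omega
    have := h0 (by omega)
    have h3 : Subsingleton (G ⟶ R.obj (L.obj M)) :=
      ((adj.homEquiv G _).symm.trans (Equiv.refl _)).subsingleton_congr.2
        ⟨fun f g => hG.eq_of_src _ _⟩
    have h4 : Subsingleton (G ⟶ M) := ⟨fun f g => (cancel_mono (adj.unit.app M)).1 (h3.elim _ _)⟩
    exact (Ext.homEquiv₀ (X := G) (Y := M)).subsingleton

end Groth.Agent.Sga2lef.H91.Dep
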