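import Groth.Prelude.Def_EtDepth
import Groth.Agent.Sga2lef.H91.Dep
import Groth.Agent.Sga4h.LocCohLES
import Groth.Agent.Sga4h.BidLimAb
import Groth.Agent.Etrest.ModCons

/-!
# Étale depth and vanishing of `Ext` of sheaves of modules

`j : U ⟶ X` an open immersion, `G` a sheaf of `Λ`-modules with `j^* G = 0`. If the depth of `M` along the complement
of `U` is `≥ ρ`, then `Ext^i(G, M) = 0` for `i < ρ`.
-/

set_option autoImplicit false
universe u
open CategoryTheory CategoryTheory.Limits AlgebraicGeometry Opposite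

namespace Groth.Agent.Sga2lef.H91.DepEt

open Groth.Agent.Etrest.ModAb Groth.Agent.Sga4h

variable {Λ : Type (u + 1)} [CommRing Λ] {X U : Scheme.{u}} (j : U ⟶ X)

theorem mono_unit_iff (M : EtModW.Mod Λ X) :
    Mono ((pullPushAdj Λ j).unit.app M) ↔ Mono (EtDual.unitApp j ((ab Λ X).obj M)) := by
  have h := BidLimAb.ab_unit_pullIso j M
  have h1 : EtDual.unitApp j ((ab Λ X).obj M) = (ab Λ X).map ((pullPushAdj Λ j).unit.app M) ≫
      (pushIso Λ j).hom.app _ ≫ (EtCoh.push j).map ((pullIso Λ j).hom.app M) := h.symm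
  rw [h1]
  constructor
  · intro _
    exact mono_comp _ _
  · intro h2
    have h3 : Mono ((ab Λ X).map ((pullPushAdj Λ j).unit.app M)) := mono_of_mono _ ((pushIso Λ j).hom.app _ ≫
      (EtCoh.push j).map ((pullIso Λ j).hom.app M))
    exact (ab Λ X).mono_of_mono_map h3

theorem epi_unit_iff (M : EtModW.Mod Λ X) :
    Epi ((pullPushAdj Λ j).unit.app M) ↔ Epi (EtDual.unitApp j ((ab Λ X).obj M)) := by
  have h := BidLimAb.ab_unit_pullIso j M
  have h1 : EtDual.unitApp j ((ab Λ X).obj M) = (ab Λ X).map ((pullPushAdj Λ j).unit.app M) ≫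
      (pushIso Λ j).hom.app _ ≫ (EtCoh.push j).map ((pullIso Λ j).hom.app M) := h.symm
  rw [h1]
  constructor
  · intro _
    exact epi_comp _ _
  · intro h2
    have h4 : Epi ((ab Λ X).map ((pullPushAdj Λ j).unit.app M)) := by
      have h5 : (ab Λ X).map ((pullPushAdj Λ j).unit.app M) =
          ((ab Λ X).map ((pullPushAdj Λ j).unit.app M) ≫ (pushIso Λ j).hom.app _ ≫
            (EtCoh.push j).map ((pullIso Λ j).hom.app M)) ≫
            inv ((pushIso Λ j).hom.app _ ≫ (EtCoh.push j).map ((pullIso Λ j).hom.app M)) := by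
        rw [Category.assoc, IsIso.hom_inv_id, Category.comp_id]
      rw [h5]
      exact epi_comp _ _
    exact (ab Λ X).epi_of_epi_map h4

/-- Depth and vanishing of `Ext`. -/
theorem ext_of_depth [IsOpenImmersion j] {G : EtModW.Mod Λ X}
    (hG : IsZero ((EtModW.pull Λ j).obj G)) (M : EtModW.Mod Λ X) (ρ : ℕ)
    (h : EtDepth.DepthGE j ((ab Λ X).obj M) ρ) (i : ℕ) (hi : i < ρ) :
    Subsingleton (Abelian.Ext.{u + 1} G M i) := by
  refine Dep.ext_of_depth (pullPushAdj Λ j) hG M ρ (fun h1 => ?_) (fun h1 => ?_) (fun q h1 h2 => ?_) i hi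
  · rw [mono_unit_iff, ← LocCohLES.isZero_locCoh_zero_iff]
    exact h 0 h1
  · rw [epi_unit_iff, ← LocCohLES.isZero_locCoh_one_iff]
    exact h 1 h1
  · obtain ⟨q, rfl⟩ : ∃ r, q = r + 1 := ⟨q - 1, by omega⟩
    have h3 : IsZero ((EtCoh.Rpush j (q + 1)).obj ((EtCoh.pull j).obj ((ab Λ X).obj M))) :=
      (h (q + 2) h2).of_iso (LocCohLES.locCohSuccIso j ((ab Λ X).obj M) q)
    have h4 : IsZero ((ab Λ X).obj ((EtModW.Rpush Λ j (q + 1)).obj ((EtModW.pull Λ j).obj M))) :=
      h3.of_iso ((rpushIso Λ j (q + 1)).app _ ≪≫ (EtCoh.Rpush j (q + 1)).mapIso ((pullIso Λ j).app M))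
    rw [IsZero.iff_id_eq_zero] at h4 ⊢
    apply (ab Λ X).map_injective
    rw [CategoryTheory.Functor.map_id, Functor.map_zero]
    exact h4

end Groth.Agent.Sga2lef.H91.DepEt
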