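import Mathlib.Algebra.Homology.DerivedCategory.Ext.EnoughInjectives
import Mathlib.Algebra.Homology.DerivedCategory.Ext.ExactSequences
import Mathlib.Algebra.Homology.DerivedCategory.Ext.Basic
import Mathlib.Algebra.Homology.ShortComplex.ExactFunctor

/-!
# Vanishing of `Ext` and exact adjoint functors

`L ⊣ R` with `L` and `R` exact: `Ext^i(L G, F) = 0` implies `Ext^i(G, R F) = 0`.
-/

set_option autoImplicit false
universe w w' v v' u u'

open CategoryTheory CategoryTheory.Limits

namespace Groth.Agent.Sga2lef.H91.ExtAdj

variable {C : Type u} [Category.{v} C] [Abelian C] {D : Type u'} [Category.{v'} D] [Abelian D]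
  [EnoughInjectives D] [HasExt.{w} C] [HasExt.{w'} D] {L : C ⥤ D} {R : D ⥤ C} (adj : L ⊣ R) [R.Additive]
  [L.PreservesMonomorphisms] [R.PreservesEpimorphisms]

open Abelian

omit [EnoughInjectives D] [HasExt.{w'} D] [R.Additive] [L.PreservesMonomorphisms] [R.PreservesEpimorphisms]
  [Abelian D] in
theorem mk₀_comp_extClass {T : ShortComplex C} (hT : T.ShortExact) {G : C} (y : G ⟶ T.X₃) (a : G ⟶ T.X₂)
    (h : a ≫ T.g = y) : (Ext.mk₀ y).comp hT.extClass (zero_add 1) = 0 := by
  rw [← h, ← Ext.mk₀_comp_mk₀, Ext.comp_assoc_of_second_deg_zero, hT.comp_extClass, Ext.comp_zero]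

include adj in
theorem ext_adj (G : C) (i : ℕ) : ∀ (F : D) (_ : Subsingleton (Ext.{w'} (L.obj G) F i)),
    Subsingleton (Ext.{w} G (R.obj F) i) := by
  have hR : PreservesFiniteLimits R :=
    have : PreservesLimitsOfSize.{0, 0} R := adj.rightAdjoint_preservesLimits
    PreservesLimitsOfSize.preservesFiniteLimits _
  obtain _ | i := i
  · intro F h
    have h1 : Subsingleton (L.obj G ⟶ F) := (Ext.homEquiv₀ (X := L.obj G) (Y := F)).symm.subsingleton
    have h2 : Subsingleton (G ⟶ R.obj F) := (adj.homEquiv G F).symm.subsingleton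
    exact (Ext.homEquiv₀ (X := G) (Y := R.obj F)).subsingleton
  · induction i with
    | zero =>
      intro F h
      refine subsingleton_of_forall_eq 0 fun x => ?_
      let ι : F ⟶ Injective.under F := Injective.ι F
      let S : ShortComplex D := ShortComplex.mk ι (cokernel.π ι) (cokernel.condition _)
      have hS : S.ShortExact :=
        { exact := ShortComplex.exact_cokernel _
          mono_f := inferInstanceAs (Mono ι)
          epi_g := inferInstanceAs (Epi (cokernel.π _)) }
      have hI : Injective (R.obj (Injective.under F)) := Injective.injective_of_adjoint adj _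
      have hSR : (S.map R).ShortExact :=
        { exact := hS.exact.map_of_mono_of_preservesKernel R hS.mono_f inferInstance
          mono_f := inferInstanceAs (Mono (R.map ι))
          epi_g := inferInstanceAs (Epi (R.map (cokernel.π ι))) }
      obtain ⟨y, hy⟩ := Ext.covariant_sequence_exact₁ G hSR x
        ((Ext.subsingleton_of_injective G (R.obj (Injective.under F)) 0).elim _ _) (zero_add 1)
      obtain ⟨y', rfl⟩ := (Ext.mk₀_bijective G (R.obj S.X₃)).2 y
      obtain ⟨z, hz⟩ := Ext.covariant_sequence_exact₃ (L.obj G) hS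
        (Ext.mk₀ ((adj.homEquiv G S.X₃).symm y')) (zero_add 1) (h.elim _ _)
      obtain ⟨z', rfl⟩ := (Ext.mk₀_bijective (L.obj G) S.X₂).2 z
      rw [Ext.mk₀_comp_mk₀] at hz
      have h1 := (Ext.mk₀_bijective (L.obj G) S.X₃).1 hz
      have h2 : y' = adj.homEquiv G S.X₂ z' ≫ R.map S.g := by
        rw [← Adjunction.homEquiv_naturality_right, h1, Equiv.apply_symm_apply]
      exact hy.symm.trans (mk₀_comp_extClass hSR y' (adj.homEquiv G S.X₂ z') h2.symm)
    | succ i ih =>
      intro F h
      refine subsingleton_of_forall_eq 0 fun x => ?_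
      let ι : F ⟶ Injective.under F := Injective.ι F
      let S : ShortComplex D := ShortComplex.mk ι (cokernel.π ι) (cokernel.condition _)
      have hS : S.ShortExact :=
        { exact := ShortComplex.exact_cokernel _
          mono_f := inferInstanceAs (Mono ι)
          epi_g := inferInstanceAs (Epi (cokernel.π _)) }
      have hI : Injective (R.obj (Injective.under F)) := Injective.injective_of_adjoint adj _
      have hSR : (S.map R).ShortExact :=
        { exact := hS.exact.map_of_mono_of_preservesKernel R hS.mono_f inferInstance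
          mono_f := inferInstanceAs (Mono (R.map ι))
          epi_g := inferInstanceAs (Epi (R.map (cokernel.π ι))) }
      have h1 : Subsingleton (Ext.{w'} (L.obj G) S.X₃ (i + 1)) := by
        refine subsingleton_of_forall_eq 0 fun y => ?_
        obtain ⟨z, hz⟩ := Ext.covariant_sequence_exact₃ (L.obj G) hS y (rfl : i + 1 + 1 = i + 1 + 1)
          (h.elim _ _)
        rw [← hz, (Ext.subsingleton_of_injective (L.obj G) (Injective.under F) i).elim z 0, Ext.zero_comp]
      obtain ⟨y, hy⟩ := Ext.covariant_sequence_exact₁ G hSR x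
        ((Ext.subsingleton_of_injective G (R.obj (Injective.under F)) (i + 1)).elim _ _)
        (rfl : i + 1 + 1 = i + 1 + 1)
      have h2 : Subsingleton (Ext.{w} G (S.map R).X₃ (i + 1)) := ih S.X₃ h1
      rw [← hy, h2.elim y 0, Ext.zero_comp]
      rfl

end Groth.Agent.Sga2lef.H91.ExtAdj
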