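import Groth.Agent.LoccohB.Devissage
import Mathlib.Algebra.Homology.DerivedCategory.Ext.Basic
import Mathlib.CategoryTheory.Triangulated.Yoneda

/-!
# Vanishing of groups of morphisms in a derived category, by devissage
-/

set_option autoImplicit false
universe w w' v u

open CategoryTheory CategoryTheory.Limits Pretriangulated DerivedCategory

namespace Groth.Agent.Sga2lef.H91.Devis

variable {C : Type u} [Category.{v} C] [Abelian C] [HasDerivedCategory.{w} C]

/-- The objects `K` such that `Hom(Z, K) = 0`. -/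
def NoTo (Z : DerivedCategory C) : ObjectProperty (DerivedCategory C) :=
  fun K => Subsingleton (Z ⟶ K)

/-- The objects `K` such that `Hom(K, Y) = 0`. -/
def NoFrom (Y : DerivedCategory C) : ObjectProperty (DerivedCategory C) :=
  fun K => Subsingleton (K ⟶ Y)

instance (Z : DerivedCategory C) : (NoTo Z).IsClosedUnderIsomorphisms where
  of_iso e h := by
    have : Subsingleton _ := h
    exact (e.homToEquiv (Z := Z)).symm.subsingleton

instance (Z : DerivedCategory C) : (NoFrom Z).IsClosedUnderIsomorphisms where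
  of_iso e h := by
    have : Subsingleton _ := h
    exact (e.homFromEquiv (Z := Z)).symm.subsingleton

/-- `Hom(Z, K) = 0` if `Hom(Z, H^i(K)[-i]) = 0` for all `i`. -/
theorem subsingleton_to (Z K : DerivedCategory C) (a b : ℤ) [K.IsGE a] [K.IsLE b]
    (h : ∀ i, Subsingleton (Z ⟶ (singleFunctor C i).obj ((homologyFunctor C i).obj K))) :
    Subsingleton (Z ⟶ K) := by
  refine LoccohB.Devissage.devissage (NoTo Z) (fun X hX => ⟨fun f g => hX.eq_of_tgt _ _⟩) ?_ K a b h
  intro T hT (h1 : Subsingleton _) (h3 : Subsingleton _)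
  refine subsingleton_of_forall_eq 0 fun f => ?_
  obtain ⟨y, hy⟩ := Triangle.coyoneda_exact₂ T hT f (h3.elim _ _)
  rw [hy, h1.elim y 0, zero_comp]

/-- `Hom(K, Y) = 0` if `Hom(H^i(K)[-i], Y) = 0` for all `i`. -/
theorem subsingleton_from (Y K : DerivedCategory C) (a b : ℤ) [K.IsGE a] [K.IsLE b]
    (h : ∀ i, Subsingleton ((singleFunctor C i).obj ((homologyFunctor C i).obj K) ⟶ Y)) :
    Subsingleton (K ⟶ Y) := by
  refine LoccohB.Devissage.devissage (NoFrom Y) (fun X hX => ⟨fun f g => hX.eq_of_src _ _⟩) ?_ K a b h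
  intro T hT (h1 : Subsingleton _) (h3 : Subsingleton _)
  refine subsingleton_of_forall_eq 0 fun f => ?_
  obtain ⟨y, hy⟩ := Triangle.yoneda_exact₂ T hT f (h1.elim _ _)
  rw [hy, h3.elim y 0, comp_zero]

/-- `Hom(A[-i], B[-j]) = Ext^{i-j}(A, B)`: vanishing. -/
theorem subsingleton_single [HasExt.{w'} C] (A B : C) (i j : ℤ)
    (h : ∀ n : ℕ, (n : ℤ) = i - j → Subsingleton (Abelian.Ext.{w'} A B n)) :
    Subsingleton ((singleFunctor C i).obj A ⟶ (singleFunctor C j).obj B) := by
  by_cases hij : i < j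
  · refine subsingleton_of_forall_eq 0 fun f => ?_
    have h1 : ((singleFunctor C i).obj A).IsLE i := inferInstance
    have h2 : ((singleFunctor C j).obj B).IsGE j := inferInstance
    exact (TStructure.t : Triangulated.TStructure (DerivedCategory C)).zero_of_isLE_of_isGE f i j
      hij h1 h2
  · obtain ⟨n, hn⟩ : ∃ n : ℕ, (n : ℤ) = i - j := ⟨(i - j).toNat, by omega⟩
    have hs := h n hn
    -- shift by `i`
    have e1 : ((singleFunctor C i).obj A)⟦i⟧ ≅ (singleFunctor C 0).obj A :=
      ((singleFunctors C).shiftIso i 0 i (by omega)).app A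
    have e2 : ((singleFunctor C j).obj B)⟦i⟧ ≅ ((singleFunctor C 0).obj B)⟦(n : ℤ)⟧ :=
      (((singleFunctors C).shiftIso i (j - i) j (by omega)).app B) ≪≫
        (((singleFunctors C).shiftIso (n : ℤ) (j - i) 0 (by omega)).app B).symm
    have e3 : ((singleFunctor C i).obj A ⟶ (singleFunctor C j).obj B) ≃
        (((singleFunctor C 0).obj A) ⟶ ((singleFunctor C 0).obj B)⟦(n : ℤ)⟧) :=
      ((Functor.FullyFaithful.ofFullyFaithful (shiftFunctor (DerivedCategory C) i)).homEquiv).trans
        (Iso.homCongr e1 e2)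
    exact (e3.trans (Abelian.Ext.homEquiv (X := A) (Y := B) (n := n)).symm).subsingleton

/-- `Hom(A[0], B[n]) = Ext^n(A, B)`. -/
theorem subsingleton_ext [HasExt.{w'} C] (A B : C) (n : ℕ)
    (h : Subsingleton ((singleFunctor C 0).obj A ⟶ ((singleFunctor C 0).obj B)⟦(n : ℤ)⟧)) :
    Subsingleton (Abelian.Ext.{w'} A B n) :=
  (Abelian.Ext.homEquiv (X := A) (Y := B) (n := n)).subsingleton

end Groth.Agent.Sga2lef.H91.Devis
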