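import Groth.Agent.Sga4h.BidGlobU
import Groth.Agent.Sga2lef.H91.Devis

/-!
# Local duality and the dual of a sheaf with small support, abstractly

`A : DualData T` a duality functor on complexes.
* `ext_of_supp` : `Ext^q(M, I) = 0` (for the unit `I`) if `Ext^{q-i}(I, H^i(D M)) = 0` for all `i`;
* `subsingleton_inj` : if `W` is injective and `Hom(K, W[-q]) = 0`, then `Hom(H^q(K), W) = 0`;
* `local_duality` : if `F`, `W` are reflexive, `W` is injective, `D W` is in degrees `≤ b`, and
  `Ext^n(H^i(D W), F) = 0` for `n < ρ`, then `Hom(H^q(D F), W) = 0` for `b - q < ρ`.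
-/

set_option autoImplicit false
set_option backward.defeqAttrib.useBackward true
set_option backward.isDefEq.respectTransparency false

universe w w' v₁ u₁

namespace Groth.Agent.Sga2lef.H91.LocDual

open CategoryTheory Category Limits Opposite ZeroObject Pretriangulated
open DerivedCategory
open Groth.Agent.Sga4h.DualCx Groth.Agent.Sga4h.DualSelf Groth.Agent.Sga4h.Refl
open Groth.Agent.Sga4h Groth.Agent.Sga2lef.H91.Devis

variable {C : Type u₁} [Category.{v₁} C] [Abelian C] [HasDerivedCategory.{w} C]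

/-- If `W` is injective and `Hom(K, W[-q]) = 0`, then `Hom(H^q(K), W) = 0`. -/
theorem subsingleton_inj₀ (K : CochainComplex C ℤ) (W : C) [Injective W] (q : ℤ)
    (h : Subsingleton (Q.obj K ⟶ (singleFunctor C q).obj W)) :
    Subsingleton (HomologicalComplex.homology K q ⟶ W) := by
  refine subsingleton_of_forall_eq 0 fun g => ?_
  let g' : HomologicalComplex.opcycles K q ⟶ W := Injective.factorThru g (HomologicalComplex.homologyι K q)
  have hg' : HomologicalComplex.homologyι K q ≫ g' = g := Injective.comp_factorThru g (HomologicalComplex.homologyι K q)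
  let f : K ⟶ (HomologicalComplex.single C (.up ℤ) q).obj W :=
    HomologicalComplex.mkHomToSingle (HomologicalComplex.pOpcycles K q ≫ g') (fun i _ => by
      rw [HomologicalComplex.d_pOpcycles_assoc, zero_comp])
  have hf : Q.map f = 0 := by
    have h1 : Q.map f ≫ ((singleFunctorIsoCompQ C q).inv.app W) = 0 := h.elim _ _
    rw [← cancel_mono ((singleFunctorIsoCompQ C q).inv.app W), zero_comp]
    exact h1
  have hH : HomologicalComplex.homologyMap f q = 0 := by
    have h2 := (homologyFunctorFactors C q).hom.naturality f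
    have h3 : (Q ⋙ homologyFunctor C q).map f = 0 := by
      change (homologyFunctor C q).map (Q.map f) = 0
      rw [hf, Functor.map_zero]
    rw [h3, zero_comp] at h2
    have h4 : (HomologicalComplex.homologyFunctor C (.up ℤ) q).map f = 0 := by
      rw [← cancel_epi ((homologyFunctorFactors C q).hom.app K), ← h2, comp_zero]
    exact h4
  have h5 : HomologicalComplex.homologyι K q ≫ HomologicalComplex.opcyclesMap f q = 0 := by
    rw [← HomologicalComplex.homologyι_naturality, hH, zero_comp]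
  have h6 : HomologicalComplex.opcyclesMap f q ≫
      (HomologicalComplex.singleObjOpcyclesSelfIso (.up ℤ) q W).inv = g' := by
    rw [← cancel_epi (HomologicalComplex.pOpcycles K q), HomologicalComplex.p_opcyclesMap_assoc]
    simp [f]
  rw [← hg', ← h6, reassoc_of% h5, zero_comp]

theorem subsingleton_inj (K : DerivedCategory C) (W : C) [Injective W] (q : ℤ)
    (h : Subsingleton (K ⟶ (singleFunctor C q).obj W)) :
    Subsingleton ((homologyFunctor C q).obj K ⟶ W) := by
  obtain ⟨K₀, ⟨e⟩⟩ : ∃ K₀ : CochainComplex C ℤ, Nonempty (Q.obj K₀ ≅ K) :=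
    ⟨_, ⟨Q.objObjPreimageIso K⟩⟩
  have h1 : Subsingleton (Q.obj K₀ ⟶ (singleFunctor C q).obj W) :=
    (e.homFromEquiv (Z := (singleFunctor C q).obj W)).subsingleton
  have h2 : Subsingleton ((HomologicalComplex.homologyFunctor C (.up ℤ) q).obj K₀ ⟶ W) :=
    subsingleton_inj₀ K₀ W q h1
  exact ((Iso.homFromEquiv (Z := W) (((homologyFunctorFactors C q).symm.app K₀) ≪≫
    (homologyFunctor C q).mapIso e))).symm.subsingleton

section

variable {T : C ⥤ C ⥤ C} [T.Additive]
  [∀ X, (T.obj X).Additive]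
  [∀ (K₁ K₂ : CochainComplex C ℤ), CochainComplex.HasMapBifunctor K₁ K₂ T]
  [∀ E : CochainComplex C ℤ, (T.map₂CochainComplex.flip.obj E).IsLeftAdjoint]
  [∀ (J : Type), HasColimitsOfShape (Discrete J) C]
  [∀ (J : Type), (colim : (Discrete J ⥤ C) ⥤ C).PreservesMonomorphisms]
  [HasExt.{w'} C]

variable (A : DualData T)

theorem ext_of_supp {I : C} (ρ : T.flip.obj I ≅ 𝟭 C)
    (j : (CochainComplex.singleFunctor C 0).obj I ⟶ A.J) (hj : QuasiIso j) (M : C) (a b : ℤ)
    [(Q.obj (A.D ((CochainComplex.singleFunctor C 0).obj M))).IsGE a]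
    [(Q.obj (A.D ((CochainComplex.singleFunctor C 0).obj M))).IsLE b] (q : ℕ)
    (h : ∀ (i : ℤ) (p : ℕ), (p : ℤ) + i = q → Subsingleton (Abelian.Ext.{w'} I
      ((homologyFunctor C i).obj (Q.obj (A.D ((CochainComplex.singleFunctor C 0).obj M)))) p)) :
    Subsingleton (Abelian.Ext.{w'} M I q) := by
  apply subsingleton_ext
  obtain ⟨e⟩ := BidGlobU.nonempty_homUnit A ρ j hj ((CochainComplex.singleFunctor C 0).obj M) (q : ℤ)
  let K := Q.obj (A.D ((CochainComplex.singleFunctor C 0).obj M))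
  have h1 : Subsingleton ((singleFunctor C (q : ℤ)).obj I ⟶ K) := by
    refine subsingleton_to _ K a b fun i => subsingleton_single _ _ _ _ fun n hn => ?_
    exact h i n (by lia)
  have e2 : ((singleFunctor C (q : ℤ)).obj I)⟦(q : ℤ)⟧ ≅ (singleFunctor C 0).obj I :=
    ((singleFunctors C).shiftIso (q : ℤ) 0 (q : ℤ) (by lia)).app I
  have e3 : ((singleFunctor C (q : ℤ)).obj I ⟶ K) ≃ ((singleFunctor C 0).obj I ⟶ K⟦(q : ℤ)⟧) :=
    ((Functor.FullyFaithful.ofFullyFaithful (shiftFunctor (DerivedCategory C) (q : ℤ))).homEquiv).trans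
      (Iso.homCongr e2 (Iso.refl _))
  have e4 : (Q.obj ((CochainComplex.singleFunctor C 0).obj M) ⟶ ((singleFunctor C 0).obj I)⟦(q : ℤ)⟧) ≃
      ((singleFunctor C 0).obj M ⟶ ((singleFunctor C 0).obj I)⟦(q : ℤ)⟧) :=
    Iso.homCongr ((singleFunctorIsoCompQ C 0).app M).symm (Iso.refl _)
  exact ((e3.trans e).trans e4).symm.subsingleton

theorem local_duality (F W : C) [Injective W]
    (hF : A.Refl ((CochainComplex.singleFunctor C 0).obj F))
    (hW : A.Refl ((CochainComplex.singleFunctor C 0).obj W)) (a b : ℤ)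
    [(Q.obj (A.D ((CochainComplex.singleFunctor C 0).obj W))).IsGE a]
    [(Q.obj (A.D ((CochainComplex.singleFunctor C 0).obj W))).IsLE b] (q ρ : ℤ)
    (hρ : ∀ (i : ℤ) (n : ℕ), (n : ℤ) < ρ → Subsingleton (Abelian.Ext.{w'}
      ((homologyFunctor C i).obj (Q.obj (A.D ((CochainComplex.singleFunctor C 0).obj W)))) F n))
    (hb : b - q < ρ) :
    Subsingleton ((homologyFunctor C q).obj
      (Q.obj (A.D ((CochainComplex.singleFunctor C 0).obj F))) ⟶ W) := by
  apply subsingleton_inj
  let sF := (CochainComplex.singleFunctor C 0).obj F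
  let sW := (CochainComplex.singleFunctor C 0).obj W
  have h1 : Subsingleton (Q.obj (A.D sW) ⟶ (singleFunctor C q).obj F) := by
    refine subsingleton_from _ _ a b fun i => ?_
    by_cases hi : b < i
    · have hz : IsZero ((homologyFunctor C i).obj (Q.obj (A.D sW))) :=
        (Q.obj (A.D sW)).isZero_of_isLE b i hi
      exact ⟨fun f g => ((singleFunctor C i).map_isZero hz).eq_of_src _ _⟩
    · exact subsingleton_single _ _ _ _ fun n hn => hρ i n (by lia)
  -- `Hom(Q(D F), W[-q])`
  have hFq := hF.qis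
  have hWq := hW.qis
  have eF : (singleFunctor C q).obj F ≅ (Q.obj (A.D (A.D sF)))⟦-q⟧ :=
    (((singleFunctors C).shiftIso (-q) q 0 (by lia)).app F).symm ≪≫
      (shiftFunctor (DerivedCategory C) (-q)).mapIso ((singleFunctorIsoCompQ C 0).app F ≪≫
        @asIso _ _ _ _ (Q.map (A.ev sF)) ((isIso_Q_map_iff_quasiIso C _).2 hFq))
  have eW : (singleFunctor C q).obj W ≅ (Q.obj (A.D (A.D sW)))⟦-q⟧ :=
    (((singleFunctors C).shiftIso (-q) q 0 (by lia)).app W).symm ≪≫
      (shiftFunctor (DerivedCategory C) (-q)).mapIso ((singleFunctorIsoCompQ C 0).app W ≪≫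
        @asIso _ _ _ _ (Q.map (A.ev sW)) ((isIso_Q_map_iff_quasiIso C _).2 hWq))
  -- `D(K[q]) ≅ (D K)[-q]`
  have hsh : ∀ K : CochainComplex C ℤ, Nonempty ((Q.obj (A.D K))⟦-q⟧ ≅ Q.obj (A.D (K⟦q⟧))) := by
    intro K
    obtain ⟨e⟩ := BidGlobU.nonempty_shiftIso A K q
    exact ⟨(shiftFunctor (DerivedCategory C) (-q)).mapIso e ≪≫
      ((shiftFunctorAdd' (DerivedCategory C) q (-q) 0 (by lia)).app _).symm ≪≫
        (shiftFunctorZero (DerivedCategory C) ℤ).app _⟩
  obtain ⟨e1⟩ := hsh (A.D sF)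
  obtain ⟨e2⟩ := hsh (A.D sW)
  obtain ⟨e3⟩ := BidGlobU.nonempty_selfEquiv A (A.D sF) ((A.D sW)⟦q⟧)
  -- `Hom(Q(D F), W[-q]) ≃ Hom(Q((D W)[q]), Q(D D F))`
  have e4 : (Q.obj (A.D sF) ⟶ (singleFunctor C q).obj W) ≃
      (Q.obj ((A.D sW)⟦q⟧) ⟶ Q.obj (A.D (A.D sF))) :=
    (Iso.homCongr (Iso.refl _) (eW ≪≫ e2)).trans e3
  have e5 : (Q.obj (A.D sW))⟦q⟧ ≅ Q.obj ((A.D sW)⟦q⟧) := ((Q.commShiftIso q).app (A.D sW)).symm
  have e6 : ((singleFunctor C q).obj F)⟦q⟧ ≅ Q.obj (A.D (A.D sF)) :=
    (shiftFunctor (DerivedCategory C) q).mapIso eF ≪≫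
      ((shiftFunctorAdd' (DerivedCategory C) (-q) q 0 (by lia)).app _).symm ≪≫
        (shiftFunctorZero (DerivedCategory C) ℤ).app _
  have e7 : (Q.obj (A.D sW) ⟶ (singleFunctor C q).obj F) ≃
      (Q.obj ((A.D sW)⟦q⟧) ⟶ Q.obj (A.D (A.D sF))) :=
    ((Functor.FullyFaithful.ofFullyFaithful (shiftFunctor (DerivedCategory C) q)).homEquiv).trans
      (Iso.homCongr e5 e6)
  exact (e4.trans e7.symm).subsingleton

/-- Local duality with `W = R I` for an adjunction `L ⊣ R`. -/
theorem local_duality_adj {D : Type*} [Category* D] [Abelian D] {L : C ⥤ D} {R : D ⥤ C} (adj : L ⊣ R)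
    [L.PreservesMonomorphisms] (F : C) (I : D) [Injective I]
    (hF : A.Refl ((CochainComplex.singleFunctor C 0).obj F))
    (hW : A.Refl ((CochainComplex.singleFunctor C 0).obj (R.obj I))) (a b : ℤ)
    (ha : (Q.obj (A.D ((CochainComplex.singleFunctor C 0).obj (R.obj I)))).IsGE a)
    (hb : (Q.obj (A.D ((CochainComplex.singleFunctor C 0).obj (R.obj I)))).IsLE b) (q ρ : ℤ)
    (hρ : ∀ (i : ℤ) (n : ℕ), (n : ℤ) < ρ → Subsingleton (Abelian.Ext.{w'}
      ((A.D ((CochainComplex.singleFunctor C 0).obj (R.obj I))).homology i) F n))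
    (hbq : b - q < ρ) :
    Subsingleton (L.obj ((A.D ((CochainComplex.singleFunctor C 0).obj F)).homology q) ⟶ I) := by
  have hWI : Injective (R.obj I) := Injective.injective_of_adjoint adj I
  have h1 : ∀ (i : ℤ) (n : ℕ), (n : ℤ) < ρ → Subsingleton (Abelian.Ext.{w'}
      ((homologyFunctor C i).obj (Q.obj (A.D ((CochainComplex.singleFunctor C 0).obj (R.obj I))))) F n) := by
    intro i n hn
    have h2 := hρ i n hn
    have e : (homologyFunctor C i).obj (Q.obj (A.D ((CochainComplex.singleFunctor C 0).obj (R.obj I)))) ≅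
        (A.D ((CochainComplex.singleFunctor C 0).obj (R.obj I))).homology i :=
      (homologyFunctorFactors C i).app _
    refine subsingleton_of_forall_eq 0 fun x => ?_
    have h3 : (Abelian.Ext.mk₀ e.inv).comp x (zero_add n) = 0 := h2.elim _ _
    have h4 : (Abelian.Ext.mk₀ e.hom).comp ((Abelian.Ext.mk₀ e.inv).comp x (zero_add n)) (zero_add n) = x := by
      rw [Abelian.Ext.mk₀_comp_mk₀_assoc, e.hom_inv_id, Abelian.Ext.mk₀_id_comp]
    rw [← h4, h3, Abelian.Ext.comp_zero]
  have h2 : Subsingleton ((Q ⋙ homologyFunctor C q).obj (A.D ((CochainComplex.singleFunctor C 0).obj F)) ⟶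
      R.obj I) := local_duality A F (R.obj I) hF hW a b q ρ h1 hbq
  have h3 : Subsingleton ((A.D ((CochainComplex.singleFunctor C 0).obj F)).homology q ⟶ R.obj I) :=
    (((homologyFunctorFactors C q).app (A.D ((CochainComplex.singleFunctor C 0).obj F))).homFromEquiv
      (Z := R.obj I)).symm.subsingleton
  exact (adj.homEquiv _ I).subsingleton

end

section Bounds

variable {T : C ⥤ C ⥤ C} [T.Additive]
  [∀ X, (T.obj X).Additive]
  [∀ (K₁ K₂ : CochainComplex C ℤ), CochainComplex.HasMapBifunctor K₁ K₂ T]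
  [∀ E : CochainComplex C ℤ, (T.map₂CochainComplex.flip.obj E).IsLeftAdjoint]
  [∀ (J : Type), HasColimitsOfShape (Discrete J) C]
  [∀ (J : Type), (colim : (Discrete J ⥤ C) ⥤ C).PreservesMonomorphisms]
  [EnoughInjectives C]

/-- Bounds for the dual of an object, if the dualizing object has finite injective dimension. -/
theorem bounds_D (A : DualData T) {I : C} (j : (CochainComplex.singleFunctor C 0).obj I ⟶ A.J)
    (hj : QuasiIso j) (N : ℕ) (hd : HasInjectiveDimensionLT I (N + 1)) (W : C) :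
    (Q.obj (A.D ((CochainComplex.singleFunctor C 0).obj W))).IsGE 0 ∧
      (Q.obj (A.D ((CochainComplex.singleFunctor C 0).obj W))).IsLE N := by
  obtain ⟨J', ι, hι, hJ', h1, h2, h3⟩ := BidInj.exists_bounded I N
  let A' : DualData T := ⟨A.S, J', hJ', h3, A.flat⟩
  obtain ⟨e⟩ := BidGlobU.nonempty_iso_of_qis A A' j hj ι hι ((CochainComplex.singleFunctor C 0).obj W)
  have ha : ((CochainComplex.singleFunctor C 0).obj W).IsGE 0 := inferInstance
  have hb : ((CochainComplex.singleFunctor C 0).obj W).IsLE 0 := inferInstance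
  have h4 : (A'.D ((CochainComplex.singleFunctor C 0).obj W)).IsGE 0 :=
    BidRefl.isGE_D A' 0 0 0 (by lia)
  have h5 : (A'.D ((CochainComplex.singleFunctor C 0).obj W)).IsLE N :=
    BidRefl.isLE_D A' N 0 N (by lia)
  rw [← isGE_Q_obj_iff] at h4
  rw [← isLE_Q_obj_iff] at h5
  exact ⟨(TStructure.t : Triangulated.TStructure (DerivedCategory C)).isGE_of_iso e.symm _,
    (TStructure.t : Triangulated.TStructure (DerivedCategory C)).isLE_of_iso e.symm _⟩

end Bounds

end Groth.Agent.Sga2lef.H91.LocDual
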