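import Groth.Agent.Etrest.ModAb
import Mathlib.Data.ZMod.Basic
import Mathlib.Algebra.Module.ULift

/-!
# Abelian sheaves killed by `n` as sheaves of `ℤ/n`-modules
-/

set_option autoImplicit false
universe u
open CategoryTheory CategoryTheory.Limits AlgebraicGeometry Opposite

namespace Groth.Agent.Sga2lef.H91.ModOf

open Groth.Agent.Etrest.ModAb

variable {n : ℕ} {X : Scheme.{u}}

/-- `ℤ/n` in the universe `u + 1`. -/
abbrev Lam (n : ℕ) : Type (u + 1) := ULift.{u + 1} (ZMod n)

theorem smul_eq_zsmul {M : Type*} [AddCommGroup M] [Module (Lam.{u} n) M] (m : ℤ) (x : M) :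
    (ULift.up (m : ZMod n) : Lam.{u} n) • x = m • x := by
  have h : (ULift.up (m : ZMod n) : Lam.{u} n) = m • (1 : Lam.{u} n) := by
    apply ULift.ext
    change (m : ZMod n) = m • (1 : ZMod n)
    rw [zsmul_eq_mul, mul_one]
  rw [h, smul_assoc, one_smul]

theorem map_smul_of_add {M N : Type*} [AddCommGroup M] [AddCommGroup N] [Module (Lam.{u} n) M]
    [Module (Lam.{u} n) N] (φ : M →+ N) (r : Lam.{u} n) (x : M) : φ (r • x) = r • φ x := by
  obtain ⟨r⟩ := r
  obtain ⟨m, rfl⟩ := ZMod.intCast_surjective r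
  rw [smul_eq_zsmul, smul_eq_zsmul, map_zsmul]

/-- Morphisms of the underlying abelian sheaves are linear. -/
noncomputable def preimage {F G : EtModW.Mod (Lam.{u} n) X}
    (φ : (ab (Lam.{u} n) X).obj F ⟶ (ab (Lam.{u} n) X).obj G) : F ⟶ G where
  hom :=
    { app := fun U => ModuleCat.ofHom
        { toFun := fun x => (φ.hom.app U).hom x
          map_add' := fun x y => map_add (φ.hom.app U).hom x y
          map_smul' := fun r x => map_smul_of_add (M := F.obj.obj U) (N := G.obj.obj U)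
            (φ.hom.app U).hom r x }
      naturality := fun U V g => by
        apply ModuleCat.hom_ext
        apply LinearMap.ext
        intro x
        exact ConcreteCategory.congr_hom (φ.hom.naturality g) x }

theorem map_preimage {F G : EtModW.Mod (Lam.{u} n) X}
    (φ : (ab (Lam.{u} n) X).obj F ⟶ (ab (Lam.{u} n) X).obj G) :
    (ab (Lam.{u} n) X).map (preimage φ) = φ := by
  apply Sheaf.hom_ext
  rfl

theorem nonempty_iso_of_ab {F G : EtModW.Mod (Lam.{u} n) X}
    (e : (ab (Lam.{u} n) X).obj F ≅ (ab (Lam.{u} n) X).obj G) : Nonempty (F ≅ G) :=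
  have : (ab (Lam.{u} n) X).Full := ⟨fun φ => ⟨preimage φ, map_preimage φ⟩⟩
  ⟨(ab (Lam.{u} n) X).preimageIso e⟩

/-- The module structure on the sections. -/
noncomputable abbrev modStr {F : EtCoh.Ab X} (hF : EtCoh.KilledBy n F) (V : X.Etaleᵒᵖ) :
    Module (Lam.{u} n) (F.obj.obj V) :=
  letI : Module (ZMod n) (F.obj.obj V) := AddCommGroup.zmodModule (fun s => hF V.unop s)
  Module.compHom _ (ULift.ringEquiv.toRingHom : Lam.{u} n →+* ZMod n)

/-- The restriction maps are linear. -/
noncomputable def mapL {F : EtCoh.Ab X} (hF : EtCoh.KilledBy n F) {V W : X.Etaleᵒᵖ} (f : V ⟶ W) :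
    letI := modStr hF V
    letI := modStr hF W
    F.obj.obj V →ₗ[Lam.{u} n] F.obj.obj W :=
  letI := modStr hF V
  letI := modStr hF W
  { toFun := fun x => (F.obj.map f).hom x
    map_add' := fun x y => map_add (F.obj.map f).hom x y
    map_smul' := fun r x => map_smul_of_add (F.obj.map f).hom r x }

/-- The presheaf of modules. -/
noncomputable def psh {F : EtCoh.Ab X} (hF : EtCoh.KilledBy n F) :
    X.Etaleᵒᵖ ⥤ ModuleCat.{u + 1} (Lam.{u} n) where
  obj V := @ModuleCat.of _ _ (F.obj.obj V) _ (modStr hF V)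
  map {V W} f := @ModuleCat.ofHom _ _ _ _ _ (modStr hF V) _ (modStr hF W)
    (mapL hF f)
  map_id V := (fg (Lam.{u} n)).map_injective (by
    ext x
    exact ConcreteCategory.congr_hom (F.obj.map_id V) x)
  map_comp f g := (fg (Lam.{u} n)).map_injective (by
    ext x
    exact ConcreteCategory.congr_hom (F.obj.map_comp f g) x)

/-- The underlying presheaf of abelian groups. -/
noncomputable def pshIso {F : EtCoh.Ab X} (hF : EtCoh.KilledBy n F) :
    psh hF ⋙ fg (Lam.{u} n) ≅ F.obj :=
  NatIso.ofComponents (fun V => Iso.refl _) (fun f => by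
    ext x
    rfl)

theorem isSheaf_psh {F : EtCoh.Ab X} (hF : EtCoh.KilledBy n F) :
    Presheaf.IsSheaf X.smallEtaleTopology (psh hF) := by
  have h : Presheaf.IsSheaf X.smallEtaleTopology (psh hF ⋙ fg (Lam.{u} n)) :=
    (Presheaf.isSheaf_of_iso_iff (pshIso hF)).2 F.property
  exact Presheaf.isSheaf_of_isSheaf_comp _ _ (fg (Lam.{u} n)) h

/-- A sheaf killed by `n` underlies a sheaf of `ℤ/n`-modules. -/
theorem exists_mod {F : EtCoh.Ab X} (hF : EtCoh.KilledBy n F) :
    ∃ M : EtModW.Mod (Lam.{u} n) X, Nonempty ((ab (Lam.{u} n) X).obj M ≅ F) := by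
  refine ⟨⟨psh hF, isSheaf_psh hF⟩, ⟨?_⟩⟩
  exact (fullyFaithfulSheafToPresheaf _ _).preimageIso (pshIso hF)

end Groth.Agent.Sga2lef.H91.ModOf
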