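import Groth.Agent.Sga4h.Refl
import Groth.Agent.PerfA.ExactD

/-!
# The dual of an object killed by an exact functor commuting with duality

`R : C ⥤ C'` exact, `c : R (D W) ⟶ D' (R W)` a quasi-isomorphism. If `R W = 0` then `R (H^t (D W)) = 0`.
-/

set_option autoImplicit false
set_option backward.defeqAttrib.useBackward true
set_option backward.isDefEq.respectTransparency false

universe v₁ v₂ u₁ u₂

namespace Groth.Agent.Sga2lef.H91.RestrAbs

open CategoryTheory Category Limits Opposite
open Groth.Agent.Sga4h.DualCx Groth.Agent.Sga4h.DualSelf Groth.Agent.Sga4h.Refl Groth.Agent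

variable {C : Type u₁} [Category.{v₁} C] [Abelian C] {T : C ⥤ C ⥤ C} [T.Additive] [∀ X, (T.obj X).Additive]
  [∀ (K₁ K₂ : CochainComplex C ℤ), CochainComplex.HasMapBifunctor K₁ K₂ T]
  [∀ E : CochainComplex C ℤ, (T.map₂CochainComplex.flip.obj E).IsLeftAdjoint]
  [∀ (J : Type), HasColimitsOfShape (Discrete J) C]
  [∀ (J : Type), (colim : (Discrete J ⥤ C) ⥤ C).PreservesMonomorphisms]
  {C' : Type u₂} [Category.{v₂} C'] [Abelian C'] {T' : C' ⥤ C' ⥤ C'} [T'.Additive]
  [∀ X, (T'.obj X).Additive]
  [∀ (K₁ K₂ : CochainComplex C' ℤ), CochainComplex.HasMapBifunctor K₁ K₂ T']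
  [∀ E : CochainComplex C' ℤ, (T'.map₂CochainComplex.flip.obj E).IsLeftAdjoint]
  [∀ (J : Type), HasColimitsOfShape (Discrete J) C']
  [∀ (J : Type), (colim : (Discrete J ⥤ C') ⥤ C').PreservesMonomorphisms]
  (R : C ⥤ C') [R.Additive] [PreservesFiniteLimits R] [PreservesFiniteColimits R]

theorem isZero_map_homology (A : DualData T) (A' : DualData T') (W : C) (hW : IsZero (R.obj W))
    (c : (R.mapHomologicalComplex (ComplexShape.up ℤ)).obj
        (A.D ((CochainComplex.singleFunctor C 0).obj W)) ⟶
      A'.D ((R.mapHomologicalComplex (ComplexShape.up ℤ)).obj ((CochainComplex.singleFunctor C 0).obj W)))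
    (hc : QuasiIso c) (t : ℤ) :
    IsZero (R.obj ((A.D ((CochainComplex.singleFunctor C 0).obj W)).homology t)) := by
  let E := (CochainComplex.singleFunctor C 0).obj W
  let K' := (R.mapHomologicalComplex (ComplexShape.up ℤ)).obj E
  have h2 : K'.Acyclic := by
    have h3 : IsZero K' := by
      have e : K' ≅ (CochainComplex.singleFunctor C' 0).obj (R.obj W) :=
        (HomologicalComplex.singleMapHomologicalComplex R (ComplexShape.up ℤ) 0).app W
      exact ((CochainComplex.singleFunctor C' 0).map_isZero hW).of_iso e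
    intro q
    rw [HomologicalComplex.exactAt_iff_isZero_homology]
    exact (HomologicalComplex.homologyFunctor _ _ q).map_isZero h3
  have h4 := A'.acyclic_D h2 t
  rw [HomologicalComplex.exactAt_iff_isZero_homology] at h4
  have h5 : IsIso (HomologicalComplex.homologyMap c t) :=
    (quasiIsoAt_iff_isIso_homologyMap _ t).1 (hc.quasiIsoAt t)
  have h6 : IsZero (((R.mapHomologicalComplex (ComplexShape.up ℤ)).obj (A.D E)).homology t) :=
    h4.of_iso (@asIso _ _ _ _ _ h5)
  exact h6.of_iso ((PerfA.ExactD.mapCxHomology R (ComplexShape.up ℤ) t).app (A.D E)).symm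

end Groth.Agent.Sga2lef.H91.RestrAbs
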