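import Groth.Agent.Sga4h.BidEtRefl
import Groth.Agent.Sga4h.BidPtDbc
import Groth.Agent.Sga4h.ExtFree
import Groth.Agent.PerfA.ExactD
import Groth.Agent.Etrest.ModCons
import Groth.Agent.Sga2lef.H91.LocDual
import Groth.Agent.Sga2lef.H91.ExtAdj
import Groth.Agent.Sga2lef.H91.DepEt
import Groth.Agent.Sga2lef.H91.ModOf
import Groth.Agent.Sga2lef.H91.RestrAbs

/-!
# Local duality at a rational point, étale sheaves

* `isZero_of_hom_const` : a sheaf of `ℤ/m`-modules `N` over a separably closed field with `Hom(N, Λ) = 0` is `0`;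
* `isZero_pull_homology_D` : the dual of a sheaf vanishing over `U` étale over `X` vanishes over `U`;
* `isZero_stalk` : local duality.
-/

set_option autoImplicit false
universe u
open CategoryTheory CategoryTheory.Limits AlgebraicGeometry Opposite

attribute [local instance 5000] CategoryTheory.Abelian.toPreadditive
  CategoryTheory.Preadditive.preadditiveHasZeroMorphisms

namespace Groth.Agent.Sga2lef.H91.LocPt

attribute [local instance] HasDerivedCategory.standard
open scoped Groth.Agent.Sga4h.ModInst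
open Groth.Agent.Sga4h.Refl DerivedCategory
open Groth.Agent.Sga4h Groth.Agent.Sga4h.ModPoint Groth.Agent.Etrest.ModAb

section Point

/-- `Λ` is a cogenerator of the category of `Λ`-modules. -/
def Cog (Λ : Type (u + 1)) [CommRing Λ] : Prop :=
  ∀ N : ModuleCat.{u + 1} Λ, Subsingleton (N ⟶ ModuleCat.of Λ Λ) → IsZero N

theorem cog_zmod {m : ℕ} (hm : 0 < m) : Cog (ModOf.Lam.{u} m) := by
  intro G h
  have h0 : ∀ x : G, x = 0 := by
    intro x
    by_contra hx
    obtain ⟨β, hβ⟩ := BidGlobTri.exists_hom_ne_zero (n := m) hm.ne' (G := G) (fun g => by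
      have h1 : (ULift.up ((m : ℤ) : ZMod m) : ModOf.Lam.{u} m) • g = (m : ℤ) • g :=
        ModOf.smul_eq_zsmul (m : ℤ) g
      have h2 : (ULift.up ((m : ℤ) : ZMod m) : ModOf.Lam.{u} m) = 0 := by
        apply ULift.ext
        change ((m : ℤ) : ZMod m) = 0
        simp
      rw [h2, zero_smul] at h1
      rw [← natCast_zsmul, ← h1]) hx
    let β' : G →ₗ[ModOf.Lam.{u} m] ModOf.Lam.{u} m :=
      { toFun := fun y => ULift.up (β y)
        map_add' := fun a b => by
          apply ULift.ext
          exact map_add β a b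
        map_smul' := fun r a => ModOf.map_smul_of_add (n := m) (M := G) (N := ModOf.Lam.{u} m)
            ((AddEquiv.ulift.symm : ZMod m ≃+ ModOf.Lam.{u} m).toAddMonoidHom.comp β) r a }
    have h5 : (ModuleCat.ofHom β' : G ⟶ ModuleCat.of (ModOf.Lam.{u} m) (ModOf.Lam.{u} m)) = 0 := h.elim _ _
    have h6 := congrArg (fun f : G ⟶ ModuleCat.of (ModOf.Lam.{u} m) (ModOf.Lam.{u} m) => f.hom x) h5
    apply hβ
    exact congrArg ULift.down h6
  have : Subsingleton G := ⟨fun a b => by rw [h0 a, h0 b]⟩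
  exact ModuleCat.isZero_of_subsingleton _

variable {Λ : Type (u + 1)} [CommRing Λ] {Ω : Type u} [Field Ω] [IsSepClosed Ω]

/-- A sheaf over a separably closed field without nonzero morphisms to `Λ` is zero. -/
theorem isZero_of_hom_const (hΛ : Cog Λ) (N : EtModW.Mod Λ (Spec (CommRingCat.of Ω)))
    (h : Subsingleton (N ⟶ EtModW.constMod Λ (Spec (CommRingCat.of Ω)) Λ)) :
    IsZero N := by
  have h1 : IsZero ((Γ Λ (Spec (CommRingCat.of Ω))).obj N) := by
    refine hΛ _ ⟨fun φ ψ => ?_⟩
    apply (constantSheaf (Spec (CommRingCat.of Ω)).smallEtaleTopology (ModuleCat.{u + 1} Λ)).map_injective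
    let c := (constAdj Λ (Spec (CommRingCat.of Ω))).counit.app N
    rw [← cancel_epi (inv c)]
    exact h.elim _ _
  rw [IsZero.iff_id_eq_zero] at h1 ⊢
  apply (Γ Λ (Spec (CommRingCat.of Ω))).map_injective
  rw [CategoryTheory.Functor.map_id, h1]
  rfl

end Point

section Restr

variable {Λ : Type (u + 1)} [CommRing Λ] {X U : Scheme.{u}}

/-- The dual of a sheaf vanishing over `U` vanishes over `U`. -/
theorem isZero_resM_homology_D (A : DualData (EtModD.tensorBi Λ X)) (o : U ⟶ X) [Etale o]
    (W : EtModW.Mod Λ X) (hW : IsZero ((BidEtSh.resM Λ o).obj W)) (t : ℤ) :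
    IsZero ((BidEtSh.resM Λ o).obj
      ((A.D ((CochainComplex.singleFunctor (EtModW.Mod Λ X) 0).obj W)).homology t)) := by
  obtain ⟨J', i, hJ, hJ', hi, -⟩ := DualEt.exists_kInj
    (((BidEtSh.resM Λ o).mapHomologicalComplex (ComplexShape.up ℤ)).obj A.J)
  exact RestrAbs.isZero_map_homology (BidEtSh.resM Λ o) A (DualEt.dualData J' hJ hJ') W hW _
    (BidEtRefl.quasiIso_cmp' o A.J J' A.kinj hJ i hi _) t

end Restr

end Groth.Agent.Sga2lef.H91.LocPt
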