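import Groth.Agent.Sga4h.BidLoc48
import Groth.Agent.Sga4h.BidCmp538
import Groth.Agent.Sga4h.BidPtDbc
import Groth.Agent.Sga4h.BidRed538Et
import Groth.Agent.Sga4h.BidRed538Retr
import Groth.Agent.Sga2lef.H91.LocPt

/-!
# Biduality on smooth schemes for a general self-injective finite ring `Λ`

The statements are about a variable ring `Λ` (fast for the kernel); the inputs at `Λ` are `BidFin.FinCoh` and `SDProp`.
-/

set_option autoImplicit false
universe u

open CategoryTheory CategoryTheory.Limits CategoryTheory.Abelian AlgebraicGeometry Opposite TopologicalSpace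

attribute [local instance 5000] CategoryTheory.Abelian.toPreadditive
  CategoryTheory.Preadditive.preadditiveHasZeroMorphisms

namespace Groth.Agent.Sga2lef.H91.BidGen

attribute [local instance] HasDerivedCategory.standard
open scoped Groth.Agent.Sga4h.ModInst
open Groth.Agent.Sga4h
open Groth.Agent.Sga4h.Refl DerivedCategory Groth.Agent.Sga4h.BidIndD48 Groth.Agent.Sga4h.BidIndLoc48
open Groth.Agent.Sga4h.BidGeoIt Groth.Agent.Sga4h.BidGeoLim Groth.Agent.Sga4h.BidIndFin48
open Groth.Agent.Sga4h.BidRed538Main Groth.Agent.Sga4h.BidGlobDual Groth.Agent.Sga4h.BidLoc48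

/-- Duality on the iterated projective lines. -/
def SDProp (Λ : Type (u + 1)) [CommRing Λ] (m : ℕ) : Prop :=
  ∀ (k : Type u) [Field k] [IsSepClosed k], (m : k) ≠ 0 → ∀ d : ℕ, ∃ (N : ℕ)
      (tr : Ext.{u + 1} (EtModW.constMod Λ (It (Spec (CommRingCat.of k)) (d + 1)) Λ)
        (EtModW.constMod Λ (It (Spec (CommRingCat.of k)) (d + 1)) Λ) N →+ ZMod m),
      SheafDual m tr

/-- Finiteness on the iterated projective lines. -/
def FinProp (m : ℕ) : Prop :=
  ∀ (k : Type u) [Field k] [IsSepClosed k], (m : k) ≠ 0 → ∀ d : ℕ,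
      BidFin.FinCoh m (It (Spec (CommRingCat.of k)) (d + 1))

variable {Λ : Type (u + 1)} [CommRing Λ] [Finite Λ] [Injective (ModuleCat.of Λ Λ)] {m : ℕ}

theorem bid (hm : 0 < m) (hΛ : (m : Λ) = 0) (hfin : FinProp.{u} m) (hSD : SDProp Λ m)
    (k : Type u) [Field k] [IsSepClosed k] (hk : (m : k) ≠ 0) (d : ℕ) :
    Bid (stdDual Λ (It (Spec (CommRingCat.of k)) d)) := by
  refine bid_It hm hΛ (stdDual Λ) (fun k _ _ hk d => ?_)
    (fun X X' g hX hg => BidCmp538.loc X X' g hX hg) (fun k _ _ hk => ?_) d k hk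
  · obtain ⟨N, tr, B⟩ := hSD k hk d
    exact BidFinal48.globData_of hm hΛ B (hfin k hk d) _ (stdι _ _) (quasiIso_stdι _ _)
  · exact BidPtDbc.bid_point _ (stdι _ _) (quasiIso_stdι _ _)

theorem refl (hm : 0 < m) (hΛ : (m : Λ) = 0) (hfin : FinProp.{u} m) (hSD : SDProp Λ m)
    (k : Type u) [Field k] [IsSepClosed k] (hk : (m : k) ≠ 0)
    {X : Scheme.{u}} (a : X ⟶ Spec (CommRingCat.of k)) [Smooth a]
    (E : CochainComplex (EtModW.Mod Λ X) ℤ) (hE : EtModD.IsDbc (Q.obj E)) : (stdDual Λ X).Refl E :=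
  BidRed538Asm.refl_of_smooth (BidRed538Et.etRefl _)
    (fun w _ _ F => BidRed538Retr.exists_retract w F) k
    (fun d E hE => (bid hm hΛ hfin hSD k hk d).refl E hE) a E hE

end Groth.Agent.Sga2lef.H91.BidGen
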