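import Groth.Agent.Sga2lef.H91.LocStalk
import Groth.Agent.Sga4h.BidRed538Main
import Groth.Agent.EtpbcA.ArtinSupp
import Groth.Agent.Sga4h.ModConstFT
import Mathlib.AlgebraicGeometry.AlgClosed.Basic

/-!
# Local duality at closed points of schemes of finite type over an algebraically closed field
-/

set_option autoImplicit false
universe u
open CategoryTheory CategoryTheory.Limits AlgebraicGeometry Opposite

attribute [local instance 5000] CategoryTheory.Abelian.toPreadditive
  CategoryTheory.Preadditive.preadditiveHasZeroMorphisms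

namespace Groth.Agent.Sga2lef.H91.CPGen

attribute [local instance] HasDerivedCategory.standard
open scoped Groth.Agent.Sga4h.ModInst
open Groth.Agent.Sga4h.Refl DerivedCategory
open Groth.Agent.Sga4h Groth.Agent.Sga4h.ModPoint Groth.Agent.Etrest.ModAb

variable {Λ : Type (u + 1)} [CommRing Λ]

theorem not_mem_of_pull {X Y : Scheme.{u}} (κ : Y ⟶ X) (G : EtCoh.Ab X) (h : IsZero ((EtCoh.pull κ).obj G))
    (y : Y) : κ y ∉ EtPBC.supp G := by
  have h1 := (EtpbcA.Artin.isZero_iff _).1 h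
  rw [EtpbcA.Artin.supp_pull] at h1
  exact Set.eq_empty_iff_forall_notMem.1 h1 y

theorem isZero_pull_D {Ω : Type u} [Field Ω] {X : Scheme.{u}}
    (A : DualData (EtModD.tensorBi Λ X)) (κ : Spec (CommRingCat.of Ω) ⟶ X) [IsClosedImmersion κ]
    {U : Scheme.{u}} (j : U ⟶ X) [IsOpenImmersion j] (hj : Set.range j = (Set.range κ)ᶜ)
    (N : EtModW.Mod Λ (Spec (CommRingCat.of Ω))) (t : ℤ) :
    IsZero ((EtModW.pull Λ j).obj
      ((A.D ((CochainComplex.singleFunctor (EtModW.Mod Λ X) 0).obj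
        ((EtModW.push Λ κ).obj N))).homology t)) := by
  have h1 : IsZero ((BidEtSh.resM Λ j).obj ((EtModW.push Λ κ).obj N)) :=
    (LocStalk.isZero_pull_push κ j (by rw [hj]; exact disjoint_compl_right) N).of_iso
      ((ExtFree.pullIsoRes j).symm.app _)
  exact (LocPt.isZero_resM_homology_D A j _ h1 t).of_iso ((ExtFree.pullIsoRes j).app _)

/-- **Local duality at a rational point.** -/
theorem isZero_pull {Ω : Type u} [Field Ω] [IsSepClosed Ω] {X : Scheme.{u}}
    [Injective (ModuleCat.of Λ Λ)] (hΛ : LocPt.Cog Λ)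
    (A : DualData (EtModD.tensorBi Λ X))
    (κ : Spec (CommRingCat.of Ω) ⟶ X) [IsClosedImmersion κ]
    {U : Scheme.{u}} (j : U ⟶ X) [IsOpenImmersion j] (hj : Set.range j = (Set.range κ)ᶜ)
    (F : EtModW.Mod Λ X) (ρ : ℕ)
    (hd : EtDepth.DepthGE j ((ab Λ X).obj F) ρ)
    (hF : A.Refl ((CochainComplex.singleFunctor (EtModW.Mod Λ X) 0).obj F))
    (hW : A.Refl ((CochainComplex.singleFunctor (EtModW.Mod Λ X) 0).obj
      ((EtModW.push Λ κ).obj (EtModW.constMod Λ _ Λ))))
    (a b : ℤ)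
    (ha : (Q.obj (A.D ((CochainComplex.singleFunctor (EtModW.Mod Λ X) 0).obj
      ((EtModW.push Λ κ).obj (EtModW.constMod Λ _ Λ))))).IsGE a)
    (hb : (Q.obj (A.D ((CochainComplex.singleFunctor (EtModW.Mod Λ X) 0).obj
      ((EtModW.push Λ κ).obj (EtModW.constMod Λ _ Λ))))).IsLE b)
    (q : ℤ) (hq : b - q < ρ) :
    IsZero ((EtModW.pull Λ κ).obj
      ((A.D ((CochainComplex.singleFunctor (EtModW.Mod Λ X) 0).obj F)).homology q)) := by
  have hI : Injective (EtModW.constMod Λ (Spec (CommRingCat.of Ω)) Λ) :=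
    injective_constMod Λ Ω
  refine LocPt.isZero_of_hom_const hΛ _ ?_
  refine LocDual.local_duality_adj A (pullPushAdj Λ κ) F (EtModW.constMod Λ (Spec (CommRingCat.of Ω))
      Λ) hF hW a b ha hb q ρ (fun t n hn => ?_) hq
  exact DepEt.ext_of_depth j (isZero_pull_D A κ j hj (EtModW.constMod Λ _ Λ) t) F ρ hd n
    (by exact_mod_cast hn)

/-- **Local duality at a closed point**, `k` algebraically closed. -/
theorem not_mem_supp [Finite Λ] [Injective (ModuleCat.of Λ Λ)] (hΛ : LocPt.Cog Λ)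
    {k : Type u} [Field k] [IsAlgClosed k] {X : Scheme.{u}} (f : X ⟶ Spec (CommRingCat.of k))
    [LocallyOfFiniteType f] [IsSeparated f]
    (A : DualData (EtModD.tensorBi Λ X))
    (hA : ∀ G : EtModW.Mod Λ X, EtModW.IsConstructible Λ G →
      A.Refl ((CochainComplex.singleFunctor (EtModW.Mod Λ X) 0).obj G))
    (jA : (CochainComplex.singleFunctor (EtModW.Mod Λ X) 0).obj (EtModW.constMod Λ X Λ) ⟶ A.J)
    (hjA : QuasiIso jA) (N : ℕ) (hN : HasInjectiveDimensionLT (EtModW.constMod Λ X Λ) (N + 1))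
    (F : EtModW.Mod Λ X) (hF : EtModW.IsConstructible Λ F) (z : X) (hz : IsClosed ({z} : Set X)) (ρ : ℕ)
    {U : Scheme.{u}} (j : U ⟶ X) [IsOpenImmersion j] (hj : Set.range j = {z}ᶜ)
    (hd : EtDepth.DepthGE j ((ab Λ X).obj F) ρ) (b : ℤ) (hb : N - b < ρ) :
    z ∉ EtPBC.supp ((ab Λ X).obj
      ((A.D ((CochainComplex.singleFunctor (EtModW.Mod Λ X) 0).obj F)).homology b)) := by
  let κ : Spec (CommRingCat.of k) ⟶ X := pointOfClosedPoint f z hz
  have hκf : κ ≫ f = 𝟙 _ := pointOfClosedPoint_comp f z hz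
  have hκ : IsClosedImmersion κ := isClosedImmersion_of_comp_eq_id f κ hκf
  have hκz : κ (IsLocalRing.closedPoint k) = z := pointOfClosedPoint_apply f z hz _
  have hr : Set.range κ = {z} := by
    rw [Set.range_eq_singleton_iff]
    exact fun x => pointOfClosedPoint_apply f z hz x
  have hXN : IsLocallyNoetherian X := LocallyOfFiniteType.isLocallyNoetherian f
  have hκp : LocallyOfFinitePresentation κ := by
    have : LocallyOfFiniteType κ := inferInstance
    infer_instance
  have hW : EtModW.IsConstructible Λ ((EtModW.push Λ κ).obj (EtModW.constMod Λ _ Λ)) :=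
    ModPush.isConstructible_push κ _ (ModConstFT.isConstructible_const Λ)
  obtain ⟨h1, h2⟩ := LocDual.bounds_D A jA hjA N hN ((EtModW.push Λ κ).obj (EtModW.constMod Λ _ Λ))
  have h3 := isZero_pull hΛ A κ j (by rw [hj, hr]) F ρ hd (hA F hF) (hA _ hW) 0 N h1 h2 b hb
  have h5 : IsZero ((EtCoh.pull κ).obj ((ab Λ X).obj
      ((A.D ((CochainComplex.singleFunctor (EtModW.Mod Λ X) 0).obj F)).homology b))) :=
    ((ab Λ _).map_isZero h3).of_iso ((pullIso Λ κ).app _).symm
  have h6 := not_mem_of_pull κ _ h5 (IsLocalRing.closedPoint k)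
  rwa [hκz] at h6

end Groth.Agent.Sga2lef.H91.CPGen
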