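import Groth.Agent.Sga4B.DualFormal
import Groth.Agent.Sga4B.ZModInj
import Groth.Agent.Sga4h.BidGlobTri

/-!
# Consequences of formal duality

`phi : Ext^q(F, K) → Hom(Ext^m(Z, Ψ F), E)`, `m + q = N`.
* `ext_eq_zero` : if `phi` is bijective for `m = 0`, then `Ext^q(F, K) = 0` for `q > N`;
* `subsingleton_of_dual` : if `phi` is surjective and `Ext^q(F, K) = 0`, then `Ext^m(Z, Ψ F) = 0`.
-/

set_option autoImplicit false

universe w w' v v' u u' t

open CategoryTheory CategoryTheory.Limits CategoryTheory.Abelian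

namespace Groth.Agent.Sga2lef.H91.ExtVan

open Groth.Agent.Sga4B.DualFormal

variable {A : Type u} [Category.{v} A] [Abelian A] [HasExt.{w} A]
variable {B : Type u'} [Category.{v'} B] [Abelian B] [HasExt.{w'} B]
variable {Ψ : A ⥤ B} [Ψ.Additive] [PreservesFiniteLimits Ψ] [PreservesFiniteColimits Ψ]
variable {Z : B} {K : A} {N : ℕ} {E : Type t} [AddCommGroup E]
variable (tr : Ext.{w'} Z (Ψ.obj K) N →+ E)

theorem ext_eq_zero [EnoughInjectives A] (hE : RelInj.{w'} Ψ Z E)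
    (hN : ∀ F, Function.Bijective (phi Ψ Z tr F (q := N) (m := 0) (zero_add N))) (m : ℕ) :
    ∀ (F : A) (e : Ext.{w} F K (N + (m + 1))), e = 0 := by
  induction m with
  | zero =>
    intro F e
    obtain ⟨P, p, hp, hpe⟩ := exists_epi_kill N e
    let S := ShortComplex.mk _ _ (kernel.condition p)
    have hS : S.ShortExact := { exact := ShortComplex.exact_kernel p }
    obtain ⟨r, hr⟩ := Ext.contravariant_sequence_exact₃ hS K e hpe (n₀ := N) (by omega)
    obtain ⟨γ, hγ⟩ := hE.exists_extend S.X₂ 0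
      (AddMonoidHom.mk' (fun z : Ext.{w'} Z (Ψ.obj S.X₁) 0 =>
        z.comp (Ext.mk₀ (Ψ.map S.f)) (add_zero _)) (fun _ _ => Ext.add_comp _ _ _ _))
      (phi Ψ Z tr S.X₁ (q := N) (m := 0) (zero_add N) r) (fun b hb => by
        obtain ⟨b', rfl⟩ := (Ext.mk₀_bijective Z (Ψ.obj S.X₁)).2 b
        have h1 : (Ext.mk₀ b').comp (Ext.mk₀ (Ψ.map S.f)) (add_zero 0) = 0 := hb
        rw [Ext.mk₀_comp_mk₀, Ext.mk₀_eq_zero_iff] at h1
        have := hS.mono_f
        have h2 : b' = 0 := by rw [← cancel_mono (Ψ.map S.f), h1, zero_comp]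
        rw [h2, Ext.mk₀_zero, map_zero])
    obtain ⟨r', hr'⟩ := (hN S.X₂).2 γ
    have h3 : (Ext.mk₀ S.f).comp r' (zero_add N) = r := by
      apply (hN S.X₁).1
      ext x
      rw [phi_comp, hr']
      exact hγ x
    rw [← hr, ← h3, ← Ext.comp_assoc_of_second_deg_zero, hS.extClass_comp, Ext.zero_comp]
  | succ m ih =>
    intro F e
    obtain ⟨P, p, hp, hpe⟩ := exists_epi_kill (N + (m + 1)) e
    let S := ShortComplex.mk _ _ (kernel.condition p)
    have hS : S.ShortExact := { exact := ShortComplex.exact_kernel p }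
    obtain ⟨r, hr⟩ := Ext.contravariant_sequence_exact₃ hS K e hpe (n₀ := N + (m + 1)) (by omega)
    rw [← hr, ih S.X₁ r, Ext.comp_zero]

theorem hasInjectiveDimensionLT [EnoughInjectives A] (hE : RelInj.{w'} Ψ Z E)
    (hN : ∀ F, Function.Bijective (phi Ψ Z tr F (q := N) (m := 0) (zero_add N))) :
    HasInjectiveDimensionLT K (N + 1) := by
  refine (hasInjectiveDimensionLT_iff.{w} K (N + 1)).2 fun i hi Y e => ?_
  obtain ⟨m, rfl⟩ : ∃ m, i = N + (m + 1) := ⟨i - N - 1, by omega⟩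
  exact ext_eq_zero tr hE hN m Y e

theorem subsingleton_of_dual {n : ℕ} (hn : n ≠ 0) (tr : Ext.{w'} Z (Ψ.obj K) N →+ ULift.{t} (ZMod n)) (F : A)
    {q m : ℕ} (h : m + q = N)
    (hs : Function.Surjective (phi Ψ Z tr F h)) (hk : ∀ x : Ext.{w'} Z (Ψ.obj F) m, n • x = 0)
    (h0 : Subsingleton (Ext.{w} F K q)) : Subsingleton (Ext.{w'} Z (Ψ.obj F) m) := by
  refine subsingleton_of_forall_eq 0 fun x => ?_
  by_contra hx
  obtain ⟨β, hβ⟩ := Groth.Agent.Sga4h.BidGlobTri.exists_hom_ne_zero hn hk hx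
  obtain ⟨e, he⟩ := hs (AddEquiv.ulift.symm.toAddMonoidHom.comp β)
  rw [h0.elim e 0, map_zero] at he
  have h1 := DFunLike.congr_fun he x
  apply hβ
  exact (congrArg ULift.down h1).symm

end Groth.Agent.Sga2lef.H91.ExtVan
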