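import Groth.Agent.Sga4B.DualAsm
import Groth.Agent.Sga4h.BidGlobPkg
import Groth.Agent.Sga2lef.H91.ExtVan

/-!
# The injective dimension of the constant sheaf on a smooth scheme, from Poincaré duality
-/

set_option autoImplicit false
universe u

open CategoryTheory CategoryTheory.Limits AlgebraicGeometry Opposite CategoryTheory.Abelian

namespace Groth.Agent.Sga2lef.H91.CPInj

open Groth.Agent.Etrest.ModAb Groth.Agent.Sga4B Groth.Agent.Sga4B.LMLS Groth.Agent.Sga4B.DualAsm
open Groth.Agent.Sga4h.BidGlobPkg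

theorem injDim_of_iso {C : Type*} [Category* C] [Abelian C] {K K' : C} (e : K ≅ K') (n : ℕ)
    (h : HasInjectiveDimensionLT K n) : HasInjectiveDimensionLT K' n :=
  hasInjectiveDimensionLT_of_iso e n

theorem injDim {X P : Scheme.{u}} (j : X ⟶ P) [Etale j] {n : ℕ} (hn : 0 < n) {N : ℕ}
    {K : EtModW.Mod (Lam.{u} n) X}
    {tr : Ext.{u + 1} (Z P) ((Psi j n).obj K) N →+ E.{u} n}
    (h2 : ∀ (q m : ℕ) (h : m + q = N) (F : EtModW.Mod (Lam.{u} n) X),
      Function.Bijective (DualFormal.phi (Psi j n) (Z P) tr F h))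
    (h3 : Nonempty ((ab (Lam.{u} n) X).obj K ≅ EtCoh.const X (ZMod n))) :
    HasInjectiveDimensionLT (cM (Lam.{u} n) X) (N + 1) := by
  obtain ⟨e⟩ := nonempty_iso_cM h3
  exact injDim_of_iso e.symm _ (ExtVan.hasInjectiveDimensionLT tr
    (DualExist.relInj_zmod (Psi j n) (Z P) n hn (fun F m x => nsmul_ext j F m x))
    (fun F => h2 N 0 (zero_add N) F))

end Groth.Agent.Sga2lef.H91.CPInj
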