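import Groth.Agent.Sga2lef.H91.CPGen
import Groth.Agent.Sga2lef.H91.CPInj
import Groth.Agent.Sga2lef.H253.StkSupp

/-!
# Local duality at closed points with `ℤ/m`-coefficients
-/

set_option autoImplicit false
universe u
open CategoryTheory CategoryTheory.Limits AlgebraicGeometry Opposite CategoryTheory.Abelian

attribute [local instance 5000] CategoryTheory.Abelian.toPreadditive
  CategoryTheory.Preadditive.preadditiveHasZeroMorphisms

namespace Groth.Agent.Sga2lef.H91.CPOfG

attribute [local instance] HasDerivedCategory.standard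
open scoped Groth.Agent.Sga4h.ModInst
open Groth.Agent.Sga4h.Refl Groth.Agent.Sga4h Groth.Agent.Etrest.ModAb
open Groth.Agent.Sga4B Groth.Agent.Sga4B.LMLS Groth.Agent.Sga4B.DualAsm

/-- Local duality at a closed point for the standard duality data, from reflexivity and the injective dimension. -/
theorem isZero_stk {Λ : Type (u + 1)} [CommRing Λ] [Finite Λ] [Injective (ModuleCat.of Λ Λ)] (hΛ : LocPt.Cog Λ)
    {k : Type u} [Field k] [IsAlgClosed k] {X : Scheme.{u}} (f : X ⟶ Spec (CommRingCat.of k))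
    [LocallyOfFiniteType f] [IsSeparated f]
    (hA : ∀ G : EtModW.Mod Λ X, EtModW.IsConstructible Λ G →
      (BidRed538Main.stdDual Λ X).Refl ((CochainComplex.singleFunctor (EtModW.Mod Λ X) 0).obj G))
    (N : ℕ) (hN : HasInjectiveDimensionLT (EtModW.constMod Λ X Λ) (N + 1))
    (F : EtModW.Mod Λ X) (hF : EtModW.IsConstructible Λ F) (z : X) (hz : IsClosed ({z} : Set X)) (ρ : ℕ)
    {U : Scheme.{u}} (j : U ⟶ X) [IsOpenImmersion j] (hj : Set.range j = {z}ᶜ)
    (hd : EtDepth.DepthGE j ((ab Λ X).obj F) ρ) (b : ℤ) (hb : N - b < ρ) :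
    IsZero ((EtPts.stk Λ z).obj (((BidRed538Main.stdDual Λ X).D
      ((CochainComplex.singleFunctor (EtModW.Mod Λ X) 0).obj F)).homology b)) := by
  have h := CPGen.not_mem_supp hΛ f (BidRed538Main.stdDual Λ X) hA (BidRed538Main.stdι Λ X)
    (BidRed538Main.quasiIso_stdι Λ X) N hN F hF z hz ρ j hj hd b hb
  rwa [H253.StkSupp.mem_supp_ab_iff, not_not] at h

end Groth.Agent.Sga2lef.H91.CPOfG
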