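import Groth.Prelude.Def_EtDepth
import Groth.Agent.EtpbcA.ArtinTransfer
import Groth.Agent.EtpbcA.ArtinTrdeg

/-!
# Transfer of depth conditions

* `depthAtGE_transfer` : `DepthAtGE` along a morphism identifying strict henselizations;
* `DCond f F n` : for all points `u` with `trdeg κ(u)/K ≤ e`, the depth of `F` at `u` is `≥ n - e`;
* `DCond.restr`, `DCond.of_tower` : stability under open immersions and under base change.
-/

set_option autoImplicit false
universe u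
open CategoryTheory CategoryTheory.Limits AlgebraicGeometry Opposite

namespace Groth.Agent.Sga2lef.H91.DepthTr

open Groth.Agent.EtpbcA.Artin

theorem depthGE_of_iso {X U : Scheme.{u}} (j : U ⟶ X) [EtCoh.BCCont j] {F G : EtCoh.Ab X} (e : F ≅ G) {n : ℕ}
    (h : EtDepth.DepthGE j F n) : EtDepth.DepthGE j G n := fun p hp =>
  (h p hp).of_iso ((EtDual.locCoh j p).mapIso e.symm)

theorem depthGE_mono {X U : Scheme.{u}} (j : U ⟶ X) [EtCoh.BCCont j] {F : EtCoh.Ab X} {n m : ℕ} (hnm : m ≤ n)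
    (h : EtDepth.DepthGE j F n) : EtDepth.DepthGE j F m := fun p hp => h p (by omega)

theorem depthAtGE_of_iso {X : Scheme.{u}} {F G : EtCoh.Ab X} (e : F ≅ G) {x : X} {n : ℕ}
    (h : EtDepth.DepthAtGE X F x n) : EtDepth.DepthAtGE X G x n := fun R _ _ _ _ _ =>
  depthGE_of_iso _ ((EtCoh.pull (Hens2.specOf X x R)).mapIso e) (h R)

theorem depthAtGE_mono {X : Scheme.{u}} {F : EtCoh.Ab X} {x : X} {n m : ℕ} (hnm : m ≤ n)
    (h : EtDepth.DepthAtGE X F x n) : EtDepth.DepthAtGE X F x m := fun R _ _ _ _ _ =>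
  depthGE_mono _ hnm (h R)

theorem nonempty_pull_congr {X Y : Scheme.{u}} {f g : X ⟶ Y} (h : f = g) [EtCoh.BCCont f] [EtCoh.BCCont g]
    (F : EtCoh.Ab Y) : Nonempty ((EtCoh.pull f).obj F ≅ (EtCoh.pull g).obj F) := by
  subst h
  exact ⟨Iso.refl _⟩

theorem depthAtGE_transfer {Y Y' : Scheme.{u}} (g : Y' ⟶ Y) (y' : Y') (hg : GoodTransfer g y')
    (F : EtCoh.Ab Y) (n : ℕ) (h : EtDepth.DepthAtGE Y F (g y') n) :
    EtDepth.DepthAtGE Y' ((EtCoh.pull g).obj F) y' n := by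
  intro R _ _ _ _ _
  let _ : Algebra (Y.presheaf.stalk (g y')) R :=
      ((algebraMap (Y'.presheaf.stalk y') R).comp (g.stalkMap y').hom).toAlgebra
  obtain ⟨hloc, hR'⟩ := hg R
  have h1 := h R
  have h2 : Hens2.specOf Y' y' R ≫ g = Hens2.specOf Y (g y') R := specOf_comp g y' R
  obtain ⟨e⟩ := nonempty_pull_congr h2 F
  exact depthGE_of_iso _ (e.symm ≪≫ (EtCore.pullComp (Hens2.specOf Y' y' R) g).app F) h1

/-- For all points `u` with `trdeg κ(u)/K ≤ e`, the depth of `F` at `u` is at least `n - e`. -/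
def DCond {K : Type u} [Field K] {X : Scheme.{u}} (f : X ⟶ Spec (CommRingCat.of K)) (F : EtCoh.Ab X)
    (n : ℕ) : Prop :=
  ∀ (x : X) (e : ℕ), EtPBC.ResTrdegLE f x e → EtDepth.DepthAtGE X F x (n - e)

theorem DCond.iso {K : Type u} [Field K] {X : Scheme.{u}} {f : X ⟶ Spec (CommRingCat.of K)}
    {F G : EtCoh.Ab X} (e : F ≅ G) {n : ℕ} (h : DCond f F n) : DCond f G n := fun x d hx =>
  depthAtGE_of_iso e (h x d hx)

theorem DCond.restr {K : Type u} [Field K] {X V : Scheme.{u}} {f : X ⟶ Spec (CommRingCat.of K)}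
    {F : EtCoh.Ab X} {n : ℕ} (h : DCond f F n) (v : V ⟶ X) [IsOpenImmersion v] :
    DCond (v ≫ f) ((EtCoh.pull v).obj F) n := fun x d hx =>
  depthAtGE_transfer v x (goodTransfer_openImmersion v x) F _
    (h (v x) d ((resTrdegLE_comp_iff f v x (algAt_of_surjectiveOnStalks _ _) d).1 hx))

/-- Transcendence degrees in a tower, the reverse of `resTrdegLE_tower`. -/
theorem resTrdegLE_of_tower {K C : Type u} [Field K] [Field C] (γ : K →+* C) (e : ℕ)
    (he : (letI := γ.toAlgebra; Algebra.trdeg K C) = e)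
    {X W : Scheme.{u}} (f : X ⟶ Spec (CommRingCat.of K)) (c : W ⟶ Spec (CommRingCat.of C)) (h : W ⟶ X)
    (comm : h ≫ f = c ≫ Spec.map (CommRingCat.ofHom γ)) (w : W) (hw : AlgAt h w) (a : ℕ)
    (H : EtPBC.ResTrdegLE c w a) : EtPBC.ResTrdegLE f (h w) (e + a) := by
  refine (resTrdegLE_comp_iff f h w hw (e + a)).1 ?_
  obtain ⟨δ, hδ⟩ := exists_resMap c w
  have h2 : Spec.map (CommRingCat.ofHom (δ.comp γ)) = W.fromSpecResidueField w ≫ h ≫ f := by
    rw [comm, ← Category.assoc, ← hδ, ← Spec.map_comp]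
    rfl
  rw [resTrdegLE_iff (h ≫ f) w _ _ h2, ← trdeg_tower γ δ, he]
  rw [resTrdegLE_iff c w _ δ hδ] at H
  rw [Nat.cast_add]
  exact add_le_add_right H _

/-- Base change. -/
theorem DCond.of_tower {K C : Type u} [Field K] [Field C] (γ : K →+* C) (e : ℕ)
    (he : (letI := γ.toAlgebra; Algebra.trdeg K C) = e)
    {X W : Scheme.{u}} (f : X ⟶ Spec (CommRingCat.of K)) (c : W ⟶ Spec (CommRingCat.of C)) (h : W ⟶ X)
    (comm : h ≫ f = c ≫ Spec.map (CommRingCat.ofHom γ)) (hw : ∀ w, AlgAt h w)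
    (hg : ∀ w, GoodTransfer h w) {F : EtCoh.Ab X} {n : ℕ} (H : DCond f F (e + n)) :
    DCond c ((EtCoh.pull h).obj F) n := fun w d hd => by
  have h1 := depthAtGE_transfer h w (hg w) F _
    (H (h w) (e + d) (resTrdegLE_of_tower γ e he f c h comm w (hw w) d hd))
  rwa [show e + n - (e + d) = n - d by omega] at h1

end Groth.Agent.Sga2lef.H91.DepthTr
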