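import Groth.Agent.Etcore.ClosedExact
import Groth.Agent.Etcore.LFinite
import Groth.Agent.EtpbcA.FinPush
import Groth.Agent.Etrest.ModCons

/-!
# Direct images of sheaves of modules along closed immersions
-/

set_option autoImplicit false
universe u
open CategoryTheory CategoryTheory.Limits AlgebraicGeometry Opposite

namespace Groth.Agent.Sga2lef.H91.ModPush

open Groth.Agent.Etrest.ModAb

variable {Λ : Type (u + 1)} [CommRing Λ] {X V : Scheme.{u}} (i : V ⟶ X)

instance preservesEpimorphisms_push [IsClosedImmersion i] : (EtModW.push Λ i).PreservesEpimorphisms where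
  preserves {F G} f hf := by
    have h1 : Epi ((ab Λ X).map ((EtModW.push Λ i).map f)) := by
      have h2 := (pushIso Λ i).hom.naturality f
      have h3 : (ab Λ X).map ((EtModW.push Λ i).map f) =
          (pushIso Λ i).hom.app F ≫ (ab Λ V ⋙ EtCoh.push i).map f ≫ (pushIso Λ i).inv.app G := by
        rw [← Category.assoc, ← h2, Category.assoc, Iso.hom_inv_id_app, Category.comp_id]
        rfl
      have h4 : Epi ((ab Λ V ⋙ EtCoh.push i).map f) :=
        inferInstanceAs (Epi ((EtCoh.push i).map ((ab Λ V).map f)))
      rw [h3]
      infer_instance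
    exact (ab Λ X).epi_of_epi_map h1

/-- Constructibility of direct images under finite morphisms. -/
theorem isConstructible_push [Finite Λ] [IsFinite i] [LocallyOfFinitePresentation i] (F : EtModW.Mod Λ V)
    (hF : EtModW.IsConstructible Λ F) : EtModW.IsConstructible Λ ((EtModW.push Λ i).obj F) := by
  rw [Groth.Agent.Etcore.LFinite.isConstructible_iff_ab] at hF ⊢
  have h1 := Groth.Agent.EtpbcA.FinPush.isConstructible_push i _ hF
  exact h1

end Groth.Agent.Sga2lef.H91.ModPush
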