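import Groth.Agent.Sga2lef.H91.LocPt
import Groth.Agent.Sga2lef.H91.ModPush
import Groth.Agent.Etcore.LPullComp
import Groth.Agent.Etcore.OpenClosed
import Groth.Agent.Sga4h.EtaleRes

/-!
# Local duality at a rational point for étale sheaves
-/

set_option autoImplicit false
universe u
open CategoryTheory CategoryTheory.Limits AlgebraicGeometry Opposite

attribute [local instance 5000] CategoryTheory.Abelian.toPreadditive
  CategoryTheory.Preadditive.preadditiveHasZeroMorphisms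

namespace Groth.Agent.Sga2lef.H91.LocStalk

attribute [local instance] HasDerivedCategory.standard
open scoped Groth.Agent.Sga4h.ModInst
open Groth.Agent.Sga4h.Refl DerivedCategory
open Groth.Agent.Sga4h Groth.Agent.Sga4h.ModPoint Groth.Agent.Etrest.ModAb

section Gen

variable {Λ : Type (u + 1)} [CommRing Λ]

theorem isZero_of_ab {X : Scheme.{u}} (M : EtModW.Mod Λ X) (h : IsZero ((ab Λ X).obj M)) : IsZero M := by
  rw [IsZero.iff_id_eq_zero] at h ⊢
  apply (ab Λ X).map_injective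
  rw [CategoryTheory.Functor.map_id, Functor.map_zero]
  exact h

theorem isZero_pull_push {X Z U : Scheme.{u}} (κ : Z ⟶ X) [IsClosedImmersion κ] (o : U ⟶ X) [IsOpenImmersion o]
    (ho : Disjoint (Set.range κ) (Set.range o)) (N : EtModW.Mod Λ Z) :
    IsZero ((EtModW.pull Λ o).obj ((EtModW.push Λ κ).obj N)) := by
  apply isZero_of_ab
  have h1 := Etcore.OpenClosed.isZero_restr_push κ o ho ((ab Λ Z).obj N)
  have h2 : IsZero ((EtCoh.pull o).obj ((EtCoh.push κ).obj ((ab Λ Z).obj N))) :=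
    h1.of_iso ((EtaleRes.pullIsoRestr o).app _)
  exact h2.of_iso ((pullIso Λ o).app _ ≪≫ (EtCoh.pull o).mapIso ((pushIso Λ κ).app N))

/-- The inverse image of a sheaf vanishing on the open `O`, along a morphism with image in `O`. -/
theorem isZero_pull_of_factor {X U O : Scheme.{u}} (f : U ⟶ X) (o : O ⟶ X) [IsOpenImmersion o]
    (hf : Set.range f ⊆ Set.range o) (G : EtModW.Mod Λ X) (hG : IsZero ((EtModW.pull Λ o).obj G)) :
    IsZero ((EtModW.pull Λ f).obj G) := by
  have h1 : IsOpenImmersion.lift o f hf ≫ o = f := IsOpenImmersion.lift_fac _ _ _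
  have h2 : IsZero ((EtModW.pull Λ (IsOpenImmersion.lift o f hf ≫ o)).obj G) :=
    ((EtModW.pull Λ _).map_isZero hG).of_iso
      ((Etcore.LPullComp.pullComp Λ (IsOpenImmersion.lift o f hf) o).symm.app G)
  rwa [h1] at h2

end Gen

variable {Ω : Type u} [Field Ω] [IsSepClosed Ω] {X V : Scheme.{u}}

omit [IsSepClosed Ω] in
/-- The cohomology sheaves of the dual of the skyscraper sheaf vanish away from the point. -/
theorem isZero_pull_pull_D {Λ : Type (u + 1)} [CommRing Λ]
    (A : DualData (EtModD.tensorBi Λ X)) (κ : Spec (CommRingCat.of Ω) ⟶ X) [IsClosedImmersion κ]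
    (i : V ⟶ X) [IsClosedImmersion i] (v : Spec (CommRingCat.of Ω) ⟶ V) (hv : v ≫ i = κ)
    {U : Scheme.{u}} (j : U ⟶ V) (hj : Set.range j = (Set.range v)ᶜ)
    (N : EtModW.Mod Λ (Spec (CommRingCat.of Ω))) (t : ℤ) :
    IsZero ((EtModW.pull Λ j).obj ((EtModW.pull Λ i).obj
      ((A.D ((CochainComplex.singleFunctor (EtModW.Mod Λ X) 0).obj
        ((EtModW.push Λ κ).obj N))).homology t))) := by
  let O : X.Opens := ⟨(Set.range κ)ᶜ, κ.isClosedEmbedding.isClosed_range.isOpen_compl⟩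
  have hO : Set.range O.ι = (Set.range κ)ᶜ := by
    rw [Scheme.Opens.range_ι]; rfl
  have h1 : IsZero ((BidEtSh.resM Λ O.ι).obj ((EtModW.push Λ κ).obj N)) :=
    (isZero_pull_push κ O.ι (by rw [hO]; exact disjoint_compl_right) N).of_iso
      ((ExtFree.pullIsoRes O.ι).symm.app _)
  have h2 := LocPt.isZero_resM_homology_D A O.ι _ h1 t
  have h3 : IsZero ((EtModW.pull Λ O.ι).obj ((A.D ((CochainComplex.singleFunctor (EtModW.Mod Λ X) 0).obj
        ((EtModW.push Λ κ).obj N))).homology t)) := h2.of_iso ((ExtFree.pullIsoRes O.ι).app _)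
  have h4 : IsZero ((EtModW.pull Λ (j ≫ i)).obj ((A.D ((CochainComplex.singleFunctor (EtModW.Mod Λ X) 0).obj
        ((EtModW.push Λ κ).obj N))).homology t)) := by
    refine isZero_pull_of_factor (j ≫ i) O.ι ?_ _ h3
    rw [hO]
    rintro _ ⟨x, rfl⟩ ⟨y, hy⟩
    have h5 : j x ∈ (Set.range v)ᶜ := hj ▸ ⟨x, rfl⟩
    apply h5
    refine ⟨y, i.isClosedEmbedding.injective ?_⟩
    rw [← Scheme.Hom.comp_apply, hv, hy, Scheme.Hom.comp_apply]
  exact h4.of_iso ((Etcore.LPullComp.pullComp Λ j i).app _)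

/-- **Local duality at a rational point.** -/
theorem isZero_stalk {Λ : Type (u + 1)} [CommRing Λ] [Injective (ModuleCat.of Λ Λ)] (hΛ : LocPt.Cog Λ)
    (A : DualData (EtModD.tensorBi Λ X))
    (κ : Spec (CommRingCat.of Ω) ⟶ X) [IsClosedImmersion κ]
    (i : V ⟶ X) [IsClosedImmersion i] (v : Spec (CommRingCat.of Ω) ⟶ V) (hv : v ≫ i = κ)
    {U : Scheme.{u}} (j : U ⟶ V) [IsOpenImmersion j] (hj : Set.range j = (Set.range v)ᶜ)
    (F : EtModW.Mod Λ V) (ρ : ℕ)
    (hd : EtDepth.DepthGE j ((ab Λ V).obj F) ρ)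
    (hF : A.Refl ((CochainComplex.singleFunctor (EtModW.Mod Λ X) 0).obj
      ((EtModW.push Λ i).obj F)))
    (hW : A.Refl ((CochainComplex.singleFunctor (EtModW.Mod Λ X) 0).obj
      ((EtModW.push Λ κ).obj (EtModW.constMod Λ _ Λ))))
    (a b : ℤ)
    (ha : (Q.obj (A.D ((CochainComplex.singleFunctor (EtModW.Mod Λ X) 0).obj
      ((EtModW.push Λ κ).obj (EtModW.constMod Λ _ Λ))))).IsGE a)
    (hb : (Q.obj (A.D ((CochainComplex.singleFunctor (EtModW.Mod Λ X) 0).obj
      ((EtModW.push Λ κ).obj (EtModW.constMod Λ _ Λ))))).IsLE b)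
    (q : ℤ) (hq : b - q < ρ) :
    IsZero ((EtModW.pull Λ κ).obj
      ((A.D ((CochainComplex.singleFunctor (EtModW.Mod Λ X) 0).obj
        ((EtModW.push Λ i).obj F))).homology q)) := by
  have hI : Injective (EtModW.constMod Λ (Spec (CommRingCat.of Ω)) Λ) :=
    injective_constMod Λ Ω
  refine LocPt.isZero_of_hom_const hΛ _ ?_
  refine LocDual.local_duality_adj A (pullPushAdj Λ κ)
    ((EtModW.push Λ i).obj F) (EtModW.constMod Λ (Spec (CommRingCat.of Ω))
      Λ) hF hW a b ha hb q ρ (fun t n hn => ?_) hq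
  exact ExtAdj.ext_adj (pullPushAdj Λ i) _ n F (DepEt.ext_of_depth j
    (isZero_pull_pull_D A κ i v hv j hj (EtModW.constMod Λ _ Λ) t) F ρ hd n
    (by exact_mod_cast hn))

end Groth.Agent.Sga2lef.H91.LocStalk
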