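import Groth.Agent.Sga5.ShriekMV

/-!
# Reduction to the affine case for the vanishing of `H^i(P, j_! F)`, for a family of sheaves

`Φ j F` a property of pairs (open immersion `j : U ⟶ P`, sheaf on `U`) stable under restriction to opens. If
`H^i(P, j_! F) = 0` for `i < n` for `U` affine with `Φ j F`, then `H^i(P, j_! F) = 0` for `i + d ≤ n` if `U` is
covered by `d` affine opens.
-/

set_option autoImplicit false
universe u
open CategoryTheory CategoryTheory.Limits AlgebraicGeometry Opposite

namespace Groth.Agent.Sga2lef.H91.MVGen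

open Groth.Agent.Etcore Groth.Agent.Etcore.ShriekUnique Groth.Agent.Etcore.OpenClosed
  Groth.Agent.Etcore.Stalks Groth.Agent.Etcore.ShriekBasic Groth.Agent.Sga5.ShriekMV

/-- A property of sheaves on opens of `P`, stable under restriction and isomorphisms. -/
structure GoodFam {P : Scheme.{u}} (Φ : ∀ {U : Scheme.{u}} (_ : U ⟶ P), EtCoh.Ab U → Prop) : Prop where
  restr : ∀ {U V : Scheme.{u}} (j : U ⟶ P) [IsOpenImmersion j] (v : V ⟶ U) [IsOpenImmersion v]
    (F : EtCoh.Ab U), Φ j F → Φ (v ≫ j) ((EtCoh.pull v).obj F)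
  iso : ∀ {U : Scheme.{u}} (j : U ⟶ P) {F G : EtCoh.Ab U} (_ : F ≅ G), Φ j F → Φ j G

/-- The affine case gives the general case. -/
theorem of_affine {P : Scheme.{u}} [hP : IsSeparated (terminal.from P)]
    {Φ : ∀ {U : Scheme.{u}} (_ : U ⟶ P), EtCoh.Ab U → Prop} (hΦ : GoodFam Φ) (n : ℕ)
    (H : ∀ {U : Scheme.{u}} (j : U ⟶ P) [IsOpenImmersion j] [EtShriek.JCont j]
      [IsAffine U] (F : EtCoh.Ab U), Φ j F →
      ∀ i : ℕ, i < n → Subsingleton (EtCoh.H P ((EtShriek.extZero j).obj F) i)) (d : ℕ) :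
    ∀ {U : Scheme.{u}} (j : U ⟶ P) [IsOpenImmersion j] [EtShriek.JCont j]
      (V : Fin d → U.Opens) (_ : ∀ i, IsAffineOpen (V i)) (_ : ⨆ i, V i = ⊤)
      (F : EtCoh.Ab U) (_ : Φ j F)
      (i : ℕ) (_ : i + d ≤ n), Subsingleton (EtCoh.H P ((EtShriek.extZero j).obj F) i) := by
  induction d with
  | zero =>
    intro U j _ _ V hV hcov F hF i hi
    have hU : IsEmpty U := by
      rw [iSup_of_empty] at hcov
      refine ⟨fun x => ?_⟩
      have : x ∈ (⊤ : U.Opens) := trivial
      rw [← hcov] at this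
      exact this
    exact subsingleton_H_of_isZero ((EtShriek.extZero j).map_isZero
      (Groth.Agent.Sga4B.ShriekTools.isZero_of_isEmpty hU F)) i
  | succ d ih =>
    intro U j _ _ V hV hcov F hF i hi
    have hsep : IsSeparated (terminal.from U) := by
      have : terminal.from U = j ≫ terminal.from _ := Subsingleton.elim _ _
      rw [this]
      infer_instance
    let L : U.Opens := V (Fin.last d)
    let W : U.Opens := ⨆ a : Fin d, V a.castSucc
    have hLW : L ⊔ W = ⊤ := by
      rw [← hcov]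
      apply le_antisymm
      · exact sup_le (le_iSup V _) (iSup_le fun a => le_iSup V _)
      · refine iSup_le fun a => ?_
        refine Fin.lastCases le_sup_left (fun a => ?_) a
        exact le_trans (le_iSup (fun a : Fin d => V a.castSucc) a) le_sup_right
    let G : EtCoh.Ab P := (EtShriek.extZero j).obj F
    have hflc : ∀ O : U.Opens, Φ (O.ι ≫ j) ((EtShriek.restrAlong (O.ι ≫ j)).obj G) := by
      intro O
      obtain ⟨e⟩ := nonempty_restr_iso j O.ι F
      exact hΦ.iso _ e.symm (hΦ.restr _ _ _ hF)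
    refine mv (L.ι ≫ j) (W.ι ≫ j) ((L ⊓ W).ι ≫ j) ?_ G ?_ i ?_ ?_ ?_
    · rw [range_ι_comp, range_ι_comp, range_ι_comp, TopologicalSpace.Opens.coe_inf,
        Set.image_inter j.isOpenEmbedding.injective]
    · intro Ω _ _ ξ h1 h2
      refine isZero_stalk_extZero' j ξ ?_ _
      rintro ⟨y, hy⟩
      have hy' : y ∈ L ⊔ W := hLW ▸ trivial
      rw [range_ι_comp, ← hy] at h1 h2
      rcases hy' with hy' | hy'
      · exact h1 ⟨y, hy', rfl⟩
      · exact h2 ⟨y, hy', rfl⟩
    · have : IsAffine L := hV _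
      exact H (L.ι ≫ j) _ (hflc L) i (by omega)
    · refine ih (W.ι ≫ j) (fun a => W.ι ⁻¹ᵁ V a.castSucc) (fun a => ?_) ?_ _ (hflc W)
        i (by omega)
      · refine (hV a.castSucc).preimage_of_isOpenImmersion _ ?_
        rw [Scheme.Opens.opensRange_ι]
        exact le_iSup (fun a : Fin d => V a.castSucc) a
      · rw [← Scheme.Hom.preimage_iSup]
        ext x
        simp only [TopologicalSpace.Opens.coe_top, Set.mem_univ, iff_true]
        exact x.2
    · refine ih ((L ⊓ W).ι ≫ j) (fun a => (L ⊓ W).ι ⁻¹ᵁ V a.castSucc) (fun a => ?_) ?_ _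
        (hflc _) (i + 1) (by omega)
      · have h1 : (L ⊓ W).ι ⁻¹ᵁ V a.castSucc = (L ⊓ W).ι ⁻¹ᵁ (L ⊓ V a.castSucc) := by
          ext x
          simp only [Scheme.Hom.coe_preimage, TopologicalSpace.Opens.coe_inf, Set.mem_preimage,
            Set.mem_inter_iff]
          exact ⟨fun h => ⟨x.2.1, h⟩, fun h => h.2⟩
        rw [h1]
        have h2 : IsAffineOpen (L ⊓ V a.castSucc) := (hV _).inf (hV _)
        refine h2.preimage_of_isOpenImmersion _ ?_
        rw [Scheme.Opens.opensRange_ι]
        exact inf_le_inf_left _ (le_iSup (fun a : Fin d => V a.castSucc) a)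
      · rw [← Scheme.Hom.preimage_iSup]
        ext x
        simp only [TopologicalSpace.Opens.coe_top, Set.mem_univ, iff_true]
        exact x.2.2

end Groth.Agent.Sga2lef.H91.MVGen
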